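import Cfsg.Agent.SpecSpEight.NormalForm
import Cfsg.Agent.PrimeGraphBC.Tools

/-!
The element orders of `PSp_{2m}(q)` are at most `q^(m+1)/(q-1)`.
-/

set_option autoImplicit false
set_option linter.style.haveILetI false

namespace CfsgLib.SpecSpEight

open Module CfsgLib.PrimeGraphBC
open LinearMap (BilinForm)

universe u v

/-- The least common multiple of the tori. -/
def torLcm (q : ℕ) : List (ℕ × Bool) → ℕ
  | [] => 1
  | x :: P => Nat.lcm (torLcm q P) (torN q x.1 x.2)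

theorem torN_pos {q h : ℕ} (hq : 2 ≤ q) (hh : 1 ≤ h) (b : Bool) : 0 < torN q h b := by
  cases b
  · have : q ^ 1 ≤ q ^ h := Nat.pow_le_pow_right (by omega) hh
    rw [pow_one] at this
    simp [torN]; omega
  · simp [torN]

theorem torLcm_pos {q : ℕ} (hq : 2 ≤ q) : ∀ P : List (ℕ × Bool), (∀ x ∈ P, 1 ≤ x.1) → 0 < torLcm q P
  | [], _ => Nat.one_pos
  | x :: P, h => Nat.lcm_pos (torLcm_pos hq P fun y hy => h y (List.mem_cons_of_mem _ hy))
      (torN_pos hq (h x (List.mem_cons_self ..)) _)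

theorem dvd_torLcm (q : ℕ) : ∀ P : List (ℕ × Bool), ∀ x ∈ P, torN q x.1 x.2 ∣ torLcm q P
  | y :: P, x, hx => by
    rcases List.mem_cons.1 hx with rfl | hx
    · exact Nat.dvd_lcm_right _ _
    · exact (dvd_torLcm q P x hx).trans (Nat.dvd_lcm_left _ _)

theorem lcm_mul_le {L N d : ℕ} (hL : 0 < L) (hd1 : d ∣ L) (hd2 : d ∣ N) : Nat.lcm L N * d ≤ L * N := by
  rw [← Nat.gcd_mul_lcm L N, mul_comm (Nat.gcd L N)]
  exact Nat.mul_le_mul_left _ (Nat.le_of_dvd (Nat.gcd_pos_of_pos_left _ hL) (Nat.dvd_gcd hd1 hd2))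

/-- Classes of the minus tori by the two-part of their size. -/
theorem exists_classes {q : ℕ} (hq : 2 ≤ q) : ∀ P : List (ℕ × Bool), (∀ x ∈ P, 1 ≤ x.1) →
    ∃ S : Finset ℕ, (∀ v ∈ S, q ^ 2 ^ v + 1 ∣ torLcm q P) ∧
      torLcm q P * (∏ v ∈ S, q ^ 2 ^ v) ≤ q ^ torSum P * ∏ v ∈ S, (q ^ 2 ^ v + 1)
  | [], _ => ⟨∅, by simp, by simp [torLcm, torSum]⟩
  | (h, b) :: P, hpos => by
    classical
    obtain ⟨S, hS, hle⟩ := exists_classes hq P fun y hy => hpos y (List.mem_cons_of_mem _ hy)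
    have hh : 1 ≤ h := hpos (h, b) (List.mem_cons_self ..)
    have hP := torLcm_pos hq P fun y hy => hpos y (List.mem_cons_of_mem _ hy)
    have hsum : torSum ((h, b) :: P) = h + torSum P := rfl
    have hS' : ∀ v ∈ S, q ^ 2 ^ v + 1 ∣ torLcm q ((h, b) :: P) := fun v hv =>
      (hS v hv).trans (Nat.dvd_lcm_left _ _)
    set L := torLcm q P
    set B := ∏ v ∈ S, q ^ 2 ^ v
    set A := ∏ v ∈ S, (q ^ 2 ^ v + 1)
    cases b
    · refine ⟨S, hS', ?_⟩
      have h1 : torLcm q ((h, false) :: P) ≤ L * q ^ h :=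
        (Nat.le_of_dvd (Nat.mul_pos hP (torN_pos hq hh false)) (Nat.lcm_dvd_mul _ _)).trans
          (Nat.mul_le_mul_left _ (by simp [torN]))
      calc torLcm q ((h, false) :: P) * B ≤ L * q ^ h * B := Nat.mul_le_mul_right _ h1
        _ = q ^ h * (L * B) := by ring
        _ ≤ q ^ h * (q ^ torSum P * A) := Nat.mul_le_mul_left _ hle
        _ = _ := by rw [hsum, pow_add]; ring
    · obtain ⟨v, o, ho, hvo⟩ := Nat.exists_eq_two_pow_mul_odd (n := h) (by omega)
      have hd : q ^ 2 ^ v + 1 ∣ q ^ h + 1 := by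
        rw [hvo, pow_mul]
        simpa using ho.nat_add_dvd_pow_add_pow (q ^ 2 ^ v) 1
      by_cases hv : v ∈ S
      · refine ⟨S, hS', ?_⟩
        have h1 : torLcm q ((h, true) :: P) * (q ^ 2 ^ v + 1) ≤ L * (q ^ h + 1) :=
          lcm_mul_le hP (hS v hv) hd
        have h2 : q ^ h + 1 ≤ q ^ h * (q ^ 2 ^ v + 1) := by
          have : 1 ≤ q ^ h * q ^ 2 ^ v := Nat.one_le_iff_ne_zero.2 (by positivity)
          rw [mul_add, mul_one]; omega
        refine Nat.le_of_mul_le_mul_right (c := q ^ 2 ^ v + 1) ?_ (by omega)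
        calc torLcm q ((h, true) :: P) * B * (q ^ 2 ^ v + 1)
            = torLcm q ((h, true) :: P) * (q ^ 2 ^ v + 1) * B := by ring
          _ ≤ L * (q ^ h + 1) * B := Nat.mul_le_mul_right _ h1
          _ = (q ^ h + 1) * (L * B) := by ring
          _ ≤ q ^ h * (q ^ 2 ^ v + 1) * (q ^ torSum P * A) := Nat.mul_le_mul h2 hle
          _ = _ := by rw [hsum, pow_add]; ring
      · refine ⟨insert v S, fun w hw => ?_, ?_⟩
        · rcases Finset.mem_insert.1 hw with rfl | hw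
          · exact hd.trans (Nat.dvd_lcm_right _ _)
          · exact hS' w hw
        · rw [Finset.prod_insert hv, Finset.prod_insert hv]
          have h1 : torLcm q ((h, true) :: P) ≤ L * (q ^ h + 1) :=
            Nat.le_of_dvd (Nat.mul_pos hP (Nat.succ_pos _)) (Nat.lcm_dvd_mul _ _)
          have h2 : (q ^ h + 1) * q ^ 2 ^ v ≤ q ^ h * (q ^ 2 ^ v + 1) := by
            have : q ^ 2 ^ v ≤ q ^ h := Nat.pow_le_pow_right (by omega)
              (hvo ▸ Nat.le_mul_of_pos_right _ ho.pos)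
            rw [add_mul, one_mul, mul_add, mul_one]; omega
          calc torLcm q ((h, true) :: P) * (q ^ 2 ^ v * B) ≤ L * (q ^ h + 1) * (q ^ 2 ^ v * B) :=
                Nat.mul_le_mul_right _ h1
            _ = (q ^ h + 1) * q ^ 2 ^ v * (L * B) := by ring
            _ ≤ q ^ h * (q ^ 2 ^ v + 1) * (q ^ torSum P * A) := Nat.mul_le_mul h2 hle
            _ = _ := by rw [hsum, pow_add]; ring

theorem telescope {q : ℕ} (hq : 1 ≤ q) : ∀ N : ℕ,
    (q - 1) * ∏ v ∈ Finset.range N, (q ^ 2 ^ v + 1) = q ^ 2 ^ N - 1 ∧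
      q * ∏ v ∈ Finset.range N, q ^ 2 ^ v = q ^ 2 ^ N
  | 0 => by simp
  | N + 1 => by
    obtain ⟨h1, h2⟩ := telescope hq N
    refine ⟨?_, ?_⟩
    · rw [Finset.prod_range_succ, ← mul_assoc, h1, pow_succ, pow_mul, mul_comm, ← Nat.sq_sub_sq, one_pow]
    · rw [Finset.prod_range_succ, ← mul_assoc, h2, ← pow_add, pow_succ, mul_two]

theorem torLcm_le {q : ℕ} (hq : 2 ≤ q) (P : List (ℕ × Bool)) (hpos : ∀ x ∈ P, 1 ≤ x.1) :
    (q - 1) * torLcm q P ≤ q ^ (torSum P + 1) := by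
  classical
  obtain ⟨S, -, hle⟩ := exists_classes hq P hpos
  obtain ⟨h1, h2⟩ := telescope (show 1 ≤ q by omega) (S.sup id + 1)
  have hsub : S ⊆ Finset.range (S.sup id + 1) := fun v hv =>
    Finset.mem_range.2 (Nat.lt_succ_of_le (Finset.le_sup (f := id) hv))
  rw [← Finset.prod_sdiff hsub] at h1 h2
  have hmono : ∏ v ∈ Finset.range (S.sup id + 1) \ S, q ^ 2 ^ v ≤
      ∏ v ∈ Finset.range (S.sup id + 1) \ S, (q ^ 2 ^ v + 1) :=
    Finset.prod_le_prod' fun v _ => Nat.le_succ _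
  have hpos' : 0 < (∏ v ∈ Finset.range (S.sup id + 1) \ S, q ^ 2 ^ v) * ∏ v ∈ S, q ^ 2 ^ v := by
    positivity
  have key : (q - 1) * ((∏ v ∈ Finset.range (S.sup id + 1) \ S, q ^ 2 ^ v) * ∏ v ∈ S, (q ^ 2 ^ v + 1)) ≤
      q * ((∏ v ∈ Finset.range (S.sup id + 1) \ S, q ^ 2 ^ v) * ∏ v ∈ S, q ^ 2 ^ v) := by
    refine (Nat.mul_le_mul_left _ (Nat.mul_le_mul_right _ hmono)).trans ?_
    rw [h1, h2]
    exact Nat.sub_le _ _
  refine Nat.le_of_mul_le_mul_right (c := (∏ v ∈ Finset.range (S.sup id + 1) \ S, q ^ 2 ^ v) *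
    ∏ v ∈ S, q ^ 2 ^ v) ?_ hpos'
  calc (q - 1) * torLcm q P * ((∏ v ∈ Finset.range (S.sup id + 1) \ S, q ^ 2 ^ v) * ∏ v ∈ S, q ^ 2 ^ v)
      = (q - 1) * (∏ v ∈ Finset.range (S.sup id + 1) \ S, q ^ 2 ^ v) * (torLcm q P * ∏ v ∈ S, q ^ 2 ^ v) := by ring
    _ ≤ (q - 1) * (∏ v ∈ Finset.range (S.sup id + 1) \ S, q ^ 2 ^ v) *
        (q ^ torSum P * ∏ v ∈ S, (q ^ 2 ^ v + 1)) := Nat.mul_le_mul_left _ hle
    _ = q ^ torSum P * ((q - 1) * ((∏ v ∈ Finset.range (S.sup id + 1) \ S, q ^ 2 ^ v) *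
        ∏ v ∈ S, (q ^ 2 ^ v + 1))) := by ring
    _ ≤ q ^ torSum P * (q * ((∏ v ∈ Finset.range (S.sup id + 1) \ S, q ^ 2 ^ v) *
        ∏ v ∈ S, q ^ 2 ^ v)) := Nat.mul_le_mul_left _ key
    _ = _ := by rw [pow_succ]; ring

theorem clog_le_self {p c : ℕ} (hp : 2 ≤ p) : Nat.clog p (2 * c) ≤ c := by
  rcases Nat.eq_zero_or_pos c with rfl | hc
  · simp
  · refine Nat.clog_le_of_le_pow (le_trans ?_ (Nat.pow_le_pow_left hp c))
    obtain ⟨d, rfl⟩ := Nat.exists_eq_add_of_le' hc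
    rw [pow_succ']
    have := Nat.lt_two_pow_self (n := d)
    omega

variable {F : Type u} [Field F] [Fintype F]

theorem pow_clog_le {p : ℕ} [hp : Fact p.Prime] [CharP F p] (c : ℕ) :
    p ^ Nat.clog p (2 * c) ≤ Fintype.card F ^ c := by
  obtain ⟨n, -, hn⟩ := FiniteField.card F p
  refine (Nat.pow_le_pow_right hp.out.pos (clog_le_self hp.out.two_le)).trans (Nat.pow_le_pow_left ?_ c)
  rw [hn]
  exact Nat.le_self_pow n.ne_zero p

theorem even_torN {p : ℕ} [hp : Fact p.Prime] [CharP F p] (h2 : p ≠ 2) {h : ℕ} (b : Bool) :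
    Even (torN (Fintype.card F) h b) := by
  obtain ⟨n, -, hn⟩ := FiniteField.card F p
  have hodd : Odd (Fintype.card F ^ h) := (hn ▸ (hp.out.odd_of_ne_two h2).pow).pow
  cases b
  · exact Nat.Odd.sub_odd hodd odd_one
  · exact hodd.add_one

/-- The order bound. -/
theorem psp_order_bound (m : ℕ) (hm : 2 ≤ m) (y : Cfsg.PSp m F) :
    (Fintype.card F - 1) * orderOf y ≤ Fintype.card F ^ (m + 1) := by
  classical
  obtain ⟨p, hp'⟩ := CharP.exists F
  haveI : Fact p.Prime := ⟨CharP.char_is_prime F p⟩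
  have hp1 := (Fact.out : p.Prime).one_lt
  set q := Fintype.card F with hqdef
  have hq : 2 ≤ q := Fintype.one_lt_card
  obtain ⟨A, rfl⟩ := QuotientGroup.mk_surjective y
  obtain ⟨S⟩ := normal_form (p := p) m (stdB (F := F) m) (stdB_alt m) (stdB_nondeg m)
    (by simp; omega) (fromSp m A).1.toLinearMap (fromSp m A).2
  have hEnd : ∀ M : ℕ, ((fromSp m A).1.toLinearMap : Module.End F (Fin m ⊕ Fin m → F)) ^ M =
      Matrix.toLinAlgEquiv' (A ^ M).1 := fun M => by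
    rw [SubmonoidClass.coe_pow, map_pow]
    rfl
  have hone : ∀ M : ℕ, ((fromSp m A).1.toLinearMap : Module.End F (Fin m ⊕ Fin m → F)) ^ M = 1 →
      (QuotientGroup.mk A : Cfsg.PSp m F) ^ M = 1 := fun M h => by
    rw [hEnd] at h
    have : A ^ M = 1 := Subtype.ext ((Matrix.toLinAlgEquiv' :
      Matrix (Fin m ⊕ Fin m) (Fin m ⊕ Fin m) F ≃ₐ[F] _).injective (h.trans (map_one _).symm))
    rw [← QuotientGroup.mk_pow, this]; rfl
  have hsize := S.size
  have key : ∀ M : ℕ, 0 < M → (QuotientGroup.mk A : Cfsg.PSp m F) ^ M = 1 →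
      M ≤ torLcm q S.P * q ^ (S.a + S.b) →
      (q - 1) * orderOf (QuotientGroup.mk A : Cfsg.PSp m F) ≤ q ^ (m + 1) := fun M hM h1 h2 => by
    refine le_trans (Nat.mul_le_mul_left _ ((Nat.le_of_dvd hM (orderOf_dvd_of_pow_eq_one h1)).trans h2)) ?_
    rw [← mul_assoc, show m + 1 = (torSum S.P + 1) + (S.a + S.b) by omega, pow_add q (torSum S.P + 1)]
    exact Nat.mul_le_mul_right _ (torLcm_le hq S.P S.pos)
  have hP := torLcm_pos hq S.P S.pos
  have hpd : ∀ {x y : ℕ}, x ≤ y → p ^ Nat.clog p (2 * x) ∣ p ^ Nat.clog p (2 * y) := fun h =>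
    pow_dvd_pow p (Nat.clog_mono_right p (Nat.mul_le_mul_left 2 h))
  have hmax : p ^ Nat.clog p (2 * max S.a S.b) ≤ q ^ max S.a S.b := pow_clog_le _
  have hab : max S.a S.b ≤ S.a + S.b := max_le (Nat.le_add_right _ _) (Nat.le_add_left _ _)
  by_cases hev : S.b = 0 ∨ p = 2 ∨ S.P ≠ []
  · refine key (torLcm q S.P * p ^ Nat.clog p (2 * max S.a S.b))
      (Nat.mul_pos hP (Nat.pow_pos (Fact.out : p.Prime).pos)) (hone _ (S.rel _
        (fun x hx => (dvd_torLcm q S.P x hx).mul_right _) ((hpd (le_max_left _ _)).mul_left _)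
        ((hpd (le_max_right _ _)).mul_left _) fun hb => ?_))
      (Nat.mul_le_mul_left _ (hmax.trans (Nat.pow_le_pow_right (by omega) hab)))
    by_cases h : p = 2
    · subst h
      refine Even.mul_left ?_ _
      exact even_two.pow_of_ne_zero (Nat.clog_pos one_lt_two (show 1 < 2 * max S.a S.b by omega)).ne'
    · rcases hev with h' | h' | h'
      · omega
      · exact absurd h' h
      · obtain ⟨x, hx⟩ := List.exists_mem_of_ne_nil _ h'
        exact (even_iff_two_dvd.2 ((even_iff_two_dvd.1 (even_torN (F := F) h x.2)).trans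
          (dvd_torLcm q S.P x hx))).mul_right _
  · push Not at hev
    obtain ⟨hb, h2, hP0⟩ := hev
    rcases Nat.eq_zero_or_pos S.a with ha | ha
    · refine key (p ^ Nat.clog p (2 * S.b)) (Nat.pow_pos (Fact.out : p.Prime).pos) ?_
        ((pow_clog_le (F := F) _).trans (by rw [hP0, ha, zero_add]; exact le_of_eq (one_mul _).symm))
      have h := S.neg hP0 ha
      rw [hEnd] at h
      refine (QuotientGroup.mk_pow _ A _).symm.trans ((QuotientGroup.eq_one_iff _).2 (CfsgLib.Symp.mem_center_iff.2 (Or.inr ?_)))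
      exact (Matrix.toLinAlgEquiv' : Matrix (Fin m ⊕ Fin m) (Fin m ⊕ Fin m) F ≃ₐ[F] _).injective
        (h.trans (by rw [map_neg, map_one]))
    · refine key (2 * p ^ Nat.clog p (2 * max S.a S.b)) (Nat.mul_pos two_pos (Nat.pow_pos (Fact.out : p.Prime).pos))
        (hone _ (S.rel _ (by rw [hP0]; simp) ((hpd (le_max_left _ _)).mul_left _)
          ((hpd (le_max_right _ _)).mul_left _) fun _ => even_two_mul _)) ?_
      rw [hP0]
      refine le_trans (Nat.mul_le_mul (show 2 ≤ q ^ 1 by rw [pow_one]; exact hq) hmax) ?_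
      rw [← pow_add, torLcm, one_mul]
      exact Nat.pow_le_pow_right (by omega) (by omega)

end CfsgLib.SpecSpEight
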