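import Cfsg.Agent.SpecSpEight.Models
import Cfsg.Agent.PrimeGraphBC.Transfer

/-!
Upper bounds: an orthogonal element, and an element of `Omega` with a translation, of dimension eight.
-/

set_option autoImplicit false
set_option linter.style.haveILetI false
set_option maxHeartbeats 400000

namespace CfsgLib.SpecSpEight

open Module QuadraticMap CfsgLib.Forms CfsgLib.Quad CfsgLib.PrimeGraphBC
open LinearMap (BilinForm)

universe u v

variable {F : Type u} [Field F] {V : Type v} [AddCommGroup V] [Module F V]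

theorem ker_pow_drop [FiniteDimensional F V] {N : Module.End F V} {L : ℕ} (hL : N ^ L = 0)
    (h2 : 2 ≤ finrank F (LinearMap.ker N)) : N ^ (finrank F V - 1) = 0 := by
  have hmono : ∀ i, LinearMap.ker (N ^ i) ≤ LinearMap.ker (N ^ (i + 1)) := fun i x hx => by
    rw [LinearMap.mem_ker, pow_succ', Module.End.mul_apply, show (N ^ i) x = 0 from hx, map_zero]
  have key : ∀ i, LinearMap.ker (N ^ (i + 1)) = ⊤ ∨ i + 2 ≤ finrank F (LinearMap.ker (N ^ (i + 1))) := by
    intro i
    induction i with
    | zero => exact Or.inr (by rw [zero_add, zero_add, pow_one]; exact h2)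
    | succ i ih =>
      rcases ih with h | h
      · exact Or.inl (eq_top_iff.2 (h ▸ hmono (i + 1)))
      · by_cases he : LinearMap.ker (N ^ (i + 1)) = LinearMap.ker (N ^ (i + 1 + 1))
        · refine Or.inl (eq_top_iff.2 fun x _ => ?_)
          rw [← he]
          have h1 : LinearMap.ker (N ^ (i + 1)) = LinearMap.ker (N ^ (i + 1 + L)) :=
            Module.End.ker_pow_constant he L
          rw [h1, LinearMap.mem_ker, pow_add, Module.End.mul_apply, hL, LinearMap.zero_apply, map_zero]
        · have := Submodule.finrank_lt_finrank_of_lt (lt_of_le_of_ne (hmono (i + 1)) he)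
          exact Or.inr (by omega)
  have hd := h2.trans (Submodule.finrank_le _)
  obtain ⟨i, hi⟩ : ∃ i, finrank F V = i + 2 := ⟨finrank F V - 2, by omega⟩
  rw [hi, show i + 2 - 1 = i + 1 from rfl]
  refine LinearMap.ker_eq_top.1 ?_
  rcases key i with h | h
  · exact h
  · exact Submodule.eq_top_of_finrank_eq (le_antisymm (Submodule.finrank_le _) (hi ▸ h))

theorem gsum_intertwine {W : Type*} [AddCommGroup W] [Module F W] (ι : W →ₗ[F] V) (A : Module.End F W)
    (G : Module.End F V) (h : ∀ w, G (ι w) = ι (A w)) (j : ℕ) (w : W) :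
    (G ^ j) (ι w) = ι ((A ^ j) w) ∧ gsum G j (ι w) = ι (gsum A j w) := by
  have hp : ∀ i w, (G ^ i) (ι w) = ι ((A ^ i) w) := by
    intro i
    induction i with
    | zero => intro w; rfl
    | succ i ih => intro w; rw [pow_succ', pow_succ', Module.End.mul_apply, Module.End.mul_apply, ih, h]
  refine ⟨hp j w, ?_⟩
  simp only [gsum, LinearMap.sum_apply, map_sum, hp]

/-- The polar form of a quadratic form. -/
def toB (Q : QuadraticForm F V) : oGroup Q →* bIso (polarBilin Q) where
  toFun g := ⟨g.1, fun u w => by simp only [polarBilin_apply_apply]; exact polar_oGroup g u w⟩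
  map_one' := rfl
  map_mul' _ _ := rfl

variable [CharP F 2]

theorem polar_alt (Q : QuadraticForm F V) : (polarBilin Q).IsAlt := fun x => by
  show polar Q x x = 0
  rw [polar_self]
  exact two_nsmul_zero F (Q x)

variable [Fintype F] [FiniteDimensional F V]

theorem orth_pow_eq_one {Q : QuadraticForm F V} (hQ : (polarBilin Q).Nondegenerate) (hV : finrank F V = 8)
    (g : oGroup Q) : ∃ T ∈ twelve, g ^ top (Fintype.card F) T = 1 := by
  obtain ⟨T, hT, h⟩ := isometry_pow_eq_one (polarBilin Q) (polar_alt Q) hQ hV (toEnd Q g)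
    fun u w => (toB Q g).2 u w
  exact ⟨T, hT, toEnd_injective Q (by rw [map_pow, map_one, h])⟩

theorem affine_pow_eq_one {Q : QuadraticForm F V} (hQ : (polarBilin Q).Nondegenerate) (hV : finrank F V = 8)
    (g : oGroup Q) (hg : g ∈ commutator (oGroup Q)) :
    ∃ T ∈ twelve, g ^ top (Fintype.card F) T = 1 ∧ gsum (toEnd Q g) (top (Fintype.card F) T) = 0 := by
  classical
  haveI : Fact (Nat.Prime 2) := ⟨Nat.prime_two⟩
  haveI := CfsgLib.Quad.finite_oGroup Q
  obtain ⟨k, a, ha, hN⟩ := Nat.exists_eq_two_pow_mul_odd (orderOf_pos g).ne'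
  let s : bIso (polarBilin Q) := toB Q g ^ 2 ^ k
  have hs : PrimeGraphBC.Good s a := ⟨ha, by rw [← pow_mul, ← map_pow, ← hN, pow_orderOf_eq_one, map_one], by
    obtain ⟨c, rfl⟩ := ha
    rw [Nat.cast_add, Nat.cast_mul, show ((2 : ℕ) : F) = 0 from CharP.cast_eq_zero F 2, zero_mul, zero_add,
      Nat.cast_one]
    exact one_ne_zero⟩
  let gc : Cg s := ⟨toB Q g, Subgroup.mem_centralizer_singleton_iff.2 (Commute.self_pow (toB Q g) _).eq⟩
  have hgc : gc ^ 2 ^ k = gC s := Subtype.ext rfl
  have hε : ∀ u w, polarBilin Q w u = 1 * polarBilin Q u w := fun u w => by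
    rw [one_mul, polarBilin_apply_apply, polarBilin_apply_apply, polar_comm]
  -- the two parts
  let gW : Module.End F (Wsp s a) := (toW s a gc).1.toLinearMap
  let gU : Module.End F (Usp s a) := (toU s a gc).1.toLinearMap
  have hGW : ∀ w, toEnd Q g ((Wsp s a).subtype w) = (Wsp s a).subtype (gW w) := fun w => rfl
  have hGU : ∀ u, toEnd Q g ((Usp s a).subtype u) = (Usp s a).subtype (gU u) := fun u => rfl
  have hgU : gU ^ 2 ^ k = 1 := by
    have h1 : (toU s a gc) ^ 2 ^ k = 1 := by rw [← map_pow, hgc, toU_gC hs]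
    have h2 := congrArg ((LinearEquiv.automorphismGroup.toLinearMapMonoidHom).comp (bIso (BU s a)).subtype) h1
    rwa [map_pow, map_one] at h2
  have hfix : ∀ v : V, g.1 v = v → v ∈ Usp s a := fun v hv => (mem_Usp_iff hs).2 (by
    show (toB Q g ^ 2 ^ k).1 v = v
    generalize 2 ^ k = N
    induction N with
    | zero => rfl
    | succ N ih => rw [pow_succ]; exact (congrArg (toB Q g ^ N).1 hv).trans ih)
  have hWfree : ∀ w : Wsp s a, gW w = w → w = 0 := fun w hw => Subtype.ext
    ((Submodule.disjoint_def.1 (PrimeGraphBC.isCompl hs).disjoint) w.1 w.2 (hfix _ (congrArg Subtype.val hw)))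
  obtain ⟨nW, hnW⟩ := even_finrank_of_alt (B := BW s a) (fun x => polar_alt Q x) (BW_nondeg hs hε hQ)
  obtain ⟨nU, hnU⟩ := even_finrank_of_alt (B := BU s a) (fun x => polar_alt Q x) (BU_nondeg hs hQ)
  have hsum := finrank_add hs
  rw [hnW, hnU, hV] at hsum
  -- the unipotent part drops by one
  have hdrop : (gU - 1) ^ (2 * nU - 1) = 0 ∨ nU = 0 := by
    rcases Nat.eq_zero_or_pos nU with h0 | hpos
    · exact Or.inr h0
    have hnil : (gU - 1) ^ 2 ^ k = 0 := by rw [sub_one_pow, hgU, sub_self]
    have hker : fixSp g = (LinearMap.ker (gU - 1)).map (Usp s a).subtype := by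
      ext v
      rw [mem_fixSp, Submodule.mem_map]
      constructor
      · intro hv
        refine ⟨⟨v, hfix v hv⟩, ?_, rfl⟩
        rw [LinearMap.mem_ker, LinearMap.sub_apply, Module.End.one_apply, sub_eq_zero]
        exact Subtype.ext hv
      · rintro ⟨w, hw, rfl⟩
        rw [LinearMap.mem_ker, LinearMap.sub_apply, Module.End.one_apply, sub_eq_zero] at hw
        exact congrArg Subtype.val hw
    have heven := (CfsgLib.ParityRank.mem_commutator_iff hQ (by omega) g).1 hg
    rw [hker, Submodule.finrank_map_subtype_eq, hV, Nat.even_add] at heven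
    have heven' := heven.1 (by decide)
    have hk1 : finrank F (LinearMap.ker (gU - 1)) ≠ 0 := fun h0 => by
      haveI : Nontrivial (Usp s a) := Module.nontrivial_of_finrank_pos (R := F) (by omega)
      obtain ⟨w, hw⟩ := exists_ne (0 : Usp s a)
      have hinj : Function.Injective ⇑((gU - 1) ^ 2 ^ k : Module.End F (Usp s a)) := by
        rw [Module.End.coe_pow]
        exact (LinearMap.ker_eq_bot.1 (Submodule.finrank_eq_zero.1 h0)).iterate _
      rw [hnil] at hinj
      exact hw (hinj rfl)
    have h2 : 2 ≤ finrank F (LinearMap.ker (gU - 1)) := by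
      obtain ⟨c, hc⟩ := heven'
      omega
    exact Or.inl (hnU ▸ ker_pow_drop hnil h2)
  obtain ⟨S⟩ := normal_form (p := 2) nW (BW s a) (fun x => polar_alt Q x) (BW_nondeg hs hε hQ) hnW gW
    fun u w => (toW s a gc).2 u w
  have hsize := S.size
  obtain ⟨y, hy, hsub⟩ := good_of_list S.P S.pos (by omega)
  obtain ⟨T, hT, hyT, hc⟩ := good_final ⟨torSum S.P, by omega⟩ y hy
  set M := top (Fintype.card F) T with hM
  have hdvd : ∀ c : Fin 5, (c : ℕ) + torSum S.P ≤ 4 → 2 ^ Nat.clog 2 (2 * c) ∣ M := fun c h =>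
    ((pow_clog_dvd ⟨torSum S.P, by omega⟩ c h).trans hc).mul_right _
  have hW1 : gW ^ M = 1 := by
    refine S.rel M (fun x hx => ?_) (hdvd ⟨S.a, by omega⟩ (by simp; omega)) (hdvd ⟨S.b, by omega⟩ (by simp; omega))
      fun hb => ?_
    · have h1 : x.1 ≤ torSum S.P := List.le_sum_of_mem (List.mem_map_of_mem hx)
      rw [torN_eq_val Fintype.card_pos _ (S.pos x hx) (by omega)]
      exact Dvd.dvd.mul_left (Finset.prod_dvd_prod_of_subset _ _ _ ((hsub x hx).trans hyT)) _
    · exact even_iff_two_dvd.2 ((dvd_pow_self 2 (Nat.clog_pos one_lt_two (show 1 < 2 * S.b by omega)).ne').trans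
        (hdvd ⟨S.b, by omega⟩ (by simp; omega)))
  have hW0 : gsum gW M = 0 := LinearMap.ext fun w => hWfree _ (sub_eq_zero.1 (by
    have h := LinearMap.congr_fun (gsum_mul_sub gW M) w
    rwa [hW1, sub_self, Module.End.mul_apply, LinearMap.sub_apply, Module.End.one_apply] at h))
  obtain ⟨hU1, hU0⟩ : gU ^ M = 1 ∧ gsum gU M = 0 := by
    rcases hdrop with h | h
    · obtain ⟨c, hcM⟩ := hdvd ⟨nU, by omega⟩ (by simp; omega)
      simp only at hcM
      set e := Nat.clog 2 (2 * nU)
      have hle : 2 * nU ≤ 2 ^ e := Nat.le_pow_clog one_lt_two _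
      have h1 : gU ^ 2 ^ e = 1 := by
        rw [← sub_eq_zero, ← sub_one_pow]
        exact pow_eq_zero_of_le (by omega) h
      refine ⟨by rw [hcM, pow_mul, h1, one_pow], ?_⟩
      rw [hcM, gsum_mul gU h1, gsum_two_pow, pow_eq_zero_of_le (by omega) h, smul_zero]
    · haveI : Subsingleton (Usp s a) := (Module.finrank_zero_iff (R := F)).1 (by omega)
      exact ⟨LinearMap.ext fun _ => Subsingleton.elim _ _, LinearMap.ext fun _ => Subsingleton.elim _ _⟩
  refine ⟨T, hT, toEnd_injective Q ?_, ?_⟩
  · rw [map_pow, map_one]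
    refine LinearMap.ext fun v => ?_
    obtain ⟨w, u, rfl⟩ := exists_split hs v
    have e1 := (gsum_intertwine (Wsp s a).subtype gW (toEnd Q g) hGW M w).1
    have e2 := (gsum_intertwine (Usp s a).subtype gU (toEnd Q g) hGU M u).1
    rw [hW1] at e1
    rw [hU1] at e2
    rw [map_add, map_add]
    exact congrArg₂ (· + ·) e1 e2
  · refine LinearMap.ext fun v => ?_
    obtain ⟨w, u, rfl⟩ := exists_split hs v
    have e1 := (gsum_intertwine (Wsp s a).subtype gW (toEnd Q g) hGW M w).2
    have e2 := (gsum_intertwine (Usp s a).subtype gU (toEnd Q g) hGU M u).2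
    rw [hW0, LinearMap.zero_apply, map_zero] at e1
    rw [hU0, LinearMap.zero_apply, map_zero] at e2
    rw [map_add, LinearMap.zero_apply]
    exact (congrArg₂ (· + ·) e1 e2).trans (add_zero 0)

end CfsgLib.SpecSpEight
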