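import Cfsg.Agent.SpecSpEight.OrderBound
import Cfsg.Agent.SpecSpEight.Upper
import Cfsg.Agent.Quad.Concrete

/-!
Every element of an orthogonal group in dimension `2m+1` or `2m` has order at most `q^(m+1)/(q-1)`.
-/

set_option autoImplicit false
set_option linter.style.haveILetI false
set_option maxHeartbeats 400000

namespace CfsgLib.SpecSpEight

open Module CfsgLib.Forms CfsgLib.SpecAbsorb QuadraticMap
open LinearMap (BilinForm)

universe u v

variable {F : Type u} [Field F] [Fintype F] {p : ℕ} [hp : Fact p.Prime] [CharP F p]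

/-- The shape of an isometry of a symmetric form in dimension `N`. -/
structure OShape {V : Type v} [AddCommGroup V] [Module F V] (p N : ℕ) (g : Module.End F V) where
  /-- tori -/
  P : List (ℕ × Bool)
  /-- unipotent part -/
  a : ℕ
  /-- negated unipotent part -/
  b : ℕ
  pos : ∀ x ∈ P, 1 ≤ x.1
  size : 2 * torSum P + a + b ≤ N
  rel : ∀ M : ℕ, (∀ x ∈ P, torN (Fintype.card F) x.1 x.2 ∣ M) → p ^ Nat.clog p a ∣ M →
    p ^ Nat.clog p b ∣ M → (1 ≤ b → Even M) → g ^ M = 1

/-- A cyclic part. -/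
def oshapeTorus {V : Type v} [AddCommGroup V] [Module F V] [Nontrivial V] {g : Module.End F V} {h L N : ℕ}
    (hh : 1 ≤ h) (hL : 1 ≤ L) (hn : 2 * (h * L) ≤ N) (minus : Bool)
    (hg : (g ^ torN (Fintype.card F) h minus - 1) ^ L = 0) : OShape p N g where
  P := [(h, minus)]
  a := if L ≤ 1 then 0 else L
  b := 0
  pos x hx := by rw [List.mem_singleton] at hx; subst hx; exact hh
  size := by
    simp only [torSum, List.map_cons, List.map_nil, List.sum_cons, List.sum_nil]
    split_ifs with h1
    · obtain rfl : L = 1 := by omega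
      omega
    · have : h * 2 ≤ h * L := Nat.mul_le_mul_left _ (by omega)
      have : 1 * L ≤ h * L := Nat.mul_le_mul_right _ hh
      omega
  rel M hP ha _ _ := by
    refine pow_dvd_eq_one (dvd_of_nilpotent (Nat.le_pow_clog hp.out.one_lt L) hg) ?_
    refine Nat.Coprime.mul_dvd_of_dvd_of_dvd ((torN_coprime hh minus).pow_right _)
      (hP _ (List.mem_singleton_self _)) ?_
    split_ifs at ha with h1
    · rw [Nat.clog_of_right_le_one h1, pow_zero]; exact one_dvd M
    · exact ha

theorem orth_normal_form (h2 : (2 : F) ≠ 0) : ∀ (N : ℕ) {V : Type v} [AddCommGroup V] [Module F V]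
    [FiniteDimensional F V] (B : BilinForm F V), B.IsSymm → B.Nondegenerate → finrank F V = N →
    ∀ g : Module.End F V, (∀ u w, B (g u) (g w) = B u w) → Nonempty (OShape p N g) := by
  intro N
  induction N using Nat.strong_induction_on with
  | _ N ih =>
    intro V _ _ _ B hS hB hV g hg
    rcases Nat.eq_zero_or_pos N with rfl | hn
    · haveI : Subsingleton V := (Module.finrank_zero_iff (R := F)).1 (by omega)
      exact ⟨⟨[], 0, 0, by simp, le_rfl, fun _ _ _ _ _ => LinearMap.ext fun _ => Subsingleton.elim _ _⟩⟩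
    haveI : Nontrivial V := Module.nontrivial_of_finrank_pos (R := F) (by omega)
    rcases cases (Φ := ofSymm B hS h2) (fun v hv => hB.2 v hv) hg with ⟨e, he, he0, he1, hce, hee⟩ |
        ⟨K', _, _, _, d, L, τ, y, hL, hKc, hdL, hττ, hτF, hτy, -, hnil⟩ |
        ⟨K', _, _, _, d, L, y, δ, hL, hKc, hdL, hy0, -, -, hnil⟩
    · have hee' : ∀ u w, B (e u) w = B u (e w) := hee
      have hfix : ∀ w ∈ LinearMap.range e, e w = w := by
        rintro _ ⟨x, rfl⟩; exact LinearMap.congr_fun he x
      have hec : IsCompl (LinearMap.range e) (LinearMap.ker e) := by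
        refine ⟨Submodule.disjoint_def.2 fun w hw hk => ?_, codisjoint_iff.2 (eq_top_iff.2 fun w _ => ?_)⟩
        · rw [← hfix w hw]; exact hk
        · exact Submodule.mem_sup.2 ⟨e w, ⟨w, rfl⟩, w - e w,
            by rw [LinearMap.mem_ker, map_sub, hfix _ ⟨w, rfl⟩, sub_self], by abel⟩
      have horth : ∀ x ∈ LinearMap.range e, ∀ k ∈ LinearMap.ker e, B x k = 0 ∧ B k x = 0 := fun x hx k hk => by
        have h1 : B x k = 0 := by rw [← hfix x hx, hee', show e k = 0 from hk, map_zero]
        exact ⟨h1, by rw [hS.eq, h1]⟩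
      have hnd1 : (B.restrict (LinearMap.range e)).Nondegenerate :=
        LinearMap.BilinForm.Nondegenerate.ofSeparatingLeft fun x hx => Subtype.ext (hB.1 _ fun w => by
          obtain ⟨a, ha, k, hk, rfl⟩ := Submodule.mem_sup.1 (show w ∈ LinearMap.range e ⊔ LinearMap.ker e by
            rw [hec.sup_eq_top]; trivial)
          rw [map_add, (horth x x.2 k hk).1, add_zero]
          exact hx ⟨a, ha⟩)
      have hnd2 : (B.restrict (LinearMap.ker e)).Nondegenerate :=
        LinearMap.BilinForm.Nondegenerate.ofSeparatingLeft fun x hx => Subtype.ext (hB.1 _ fun w => by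
          obtain ⟨a, ha, k, hk, rfl⟩ := Submodule.mem_sup.1 (show w ∈ LinearMap.range e ⊔ LinearMap.ker e by
            rw [hec.sup_eq_top]; trivial)
          rw [map_add, (horth a ha x x.2).2, zero_add]
          exact hx ⟨k, hk⟩)
      have hsum := Submodule.finrank_add_eq_of_isCompl hec
      have hm1 : ∀ w ∈ LinearMap.range e, g w ∈ LinearMap.range e := by
        rintro _ ⟨x, rfl⟩
        exact ⟨g x, (LinearMap.congr_fun hce.eq x).symm⟩
      have hm2 : ∀ w ∈ LinearMap.ker e, g w ∈ LinearMap.ker e := fun w hw => by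
        rw [LinearMap.mem_ker] at hw ⊢
        have := LinearMap.congr_fun hce.eq w
        rw [Module.End.mul_apply, Module.End.mul_apply, hw, map_zero] at this
        exact this.symm
      have h1 : 1 ≤ finrank F (LinearMap.range e) := by
        by_contra hc
        exact he0 (LinearMap.range_eq_bot.1 (Submodule.finrank_eq_zero.1 (by omega)))
      have h2' : 1 ≤ finrank F (LinearMap.ker e) := by
        by_contra hc
        have hk := Submodule.finrank_eq_zero.1 (show finrank F (LinearMap.ker e) = 0 by omega)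
        refine he1 (LinearMap.ext fun w => ?_)
        rw [Module.End.one_apply]
        refine sub_eq_zero.1 ((Submodule.mem_bot F).1 (hk ▸ ?_))
        rw [LinearMap.mem_ker, map_sub, hfix _ ⟨w, rfl⟩, sub_self]
      obtain ⟨S₁⟩ := ih _ (by omega) (B.restrict (LinearMap.range e)) ⟨fun u w => hS.eq u.1 w.1⟩ hnd1 rfl
        (g.restrict hm1) (fun u w => hg u w)
      obtain ⟨S₂⟩ := ih _ (by omega) (B.restrict (LinearMap.ker e)) ⟨fun u w => hS.eq u.1 w.1⟩ hnd2 rfl
        (g.restrict hm2) (fun u w => hg u w)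
      refine ⟨⟨S₁.P ++ S₂.P, S₁.a + S₂.a, S₁.b + S₂.b, ?_, ?_, fun M hP ha hb hev => ?_⟩⟩
      · intro x hx
        rcases List.mem_append.1 hx with h | h
        exacts [S₁.pos x h, S₂.pos x h]
      · rw [torSum_append]
        have := S₁.size; have := S₂.size; omega
      · have mono : ∀ {x y : ℕ}, x ≤ y → p ^ Nat.clog p y ∣ M → p ^ Nat.clog p x ∣ M := fun hxy h =>
          (pow_dvd_pow p (Nat.clog_mono_right p hxy)).trans h
        have e1 := S₁.rel M (fun x hx => hP x (List.mem_append_left _ hx)) (mono (Nat.le_add_right _ _) ha)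
          (mono (Nat.le_add_right _ _) hb) (fun h => hev (by omega))
        have e2 := S₂.rel M (fun x hx => hP x (List.mem_append_right _ hx)) (mono (Nat.le_add_left _ _) ha)
          (mono (Nat.le_add_left _ _) hb) (fun h => hev (by omega))
        refine LinearMap.ext fun w => ?_
        obtain ⟨a, ha, k, hk, rfl⟩ := Submodule.mem_sup.1 (show w ∈ LinearMap.range e ⊔ LinearMap.ker e by
          rw [hec.sup_eq_top]; trivial)
        have ea := congrArg Subtype.val (LinearMap.congr_fun e1 ⟨a, ha⟩)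
        have ek := congrArg Subtype.val (LinearMap.congr_fun e2 ⟨k, hk⟩)
        rw [Module.End.pow_restrict] at ea ek
        rw [map_add, map_add]
        exact congrArg₂ (· + ·) ea ek
    · rw [hV] at hdL
      have hd : 0 < d := by rcases Nat.eq_zero_or_pos d with rfl | h' <;> [simp at hdL; exact h'] ; omega
      by_cases hid : τ = RingHom.id K'
      · rw [hid, RingHom.id_apply] at hτy
        have hLn : L ≤ p ^ Nat.clog p N :=
          ((Nat.le_mul_of_pos_left L hd).trans hdL.le).trans (Nat.le_pow_clog hp.out.one_lt _)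
        rcases mul_self_eq_one_iff.1 hτy with hy | hy
        · have h1 := hnil 1 1 (by rw [pow_one, map_one, hy])
          rw [map_one] at h1
          have h3 := dvd_of_nilpotent (p := p) hLn h1
          exact ⟨⟨[], N, 0, by simp, by simp [torSum],
            fun M _ ha _ _ => pow_dvd_eq_one h3 (by rwa [one_mul])⟩⟩
        · have h1 := hnil 1 (-1) (by rw [pow_one, map_neg, map_one, hy])
          rw [map_neg, map_one, pow_one, sub_neg_eq_add] at h1
          have h3 := pow_eq_neg_one (p := p) hLn h1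
          refine ⟨⟨[], 0, N, by simp, by simp [torSum], fun M _ _ hb hev => ?_⟩⟩
          haveI : CharP (Module.End F V) p :=
            charP_of_injective_algebraMap (FaithfulSMul.algebraMap_injective F _) p
          obtain ⟨t, rfl⟩ := hb
          rw [pow_mul, h3, ← neg_one_pow_char_pow (Module.End F V) p (Nat.clog p N), ← pow_mul,
            (hev hn).neg_one_pow]
      · obtain ⟨h, rfl, hτh⟩ := two_cases_field τ hττ (fun c => hτF c) hKc hid
        rw [hτh, ← pow_succ] at hτy
        have h1 := hnil _ 1 (by rw [hτy, map_one])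
        rw [map_one] at h1
        exact ⟨oshapeTorus (show 1 ≤ h by omega) hL (by rw [mul_assoc] at hdL; omega) true
          (by simpa [torN] using h1)⟩
    · rw [hV] at hdL
      have hd : 0 < d := by rcases Nat.eq_zero_or_pos d with rfl | h' <;> [simp at hdL; exact h'] ; omega
      haveI := Fintype.ofFinite K'
      have hyq : y ^ (Fintype.card F ^ d - 1) = 1 := by
        rw [← Nat.card_eq_fintype_card (α := F), ← hKc, Nat.card_eq_fintype_card]
        exact FiniteField.pow_card_sub_one_eq_one y hy0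
      have h1 := hnil _ 1 (by rw [hyq, map_one]) (by simp [ofSymm])
      rw [map_one] at h1
      exact ⟨oshapeTorus (show 1 ≤ d by omega) hL (by omega) false (by simpa [torN] using h1)⟩

omit [Fintype F] in
theorem two_mul_add_one_le (hp3 : 3 ≤ p) : ∀ c : ℕ, 2 * c + 1 ≤ p ^ c
  | 0 => by simp
  | c + 1 => by
    have := two_mul_add_one_le hp3 c
    have := Nat.mul_le_mul_left (p ^ c) hp3
    rw [pow_succ]
    omega

omit [Fintype F] in
theorem small_unip_le (hp3 : 3 ≤ p) : ∀ m : ℕ, 3 ≤ m → 2 * m + 1 ≤ p ^ (m - 1)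
  | 0, h => by omega
  | m + 1, h => by
    rcases Nat.lt_or_ge m 3 with h' | h'
    · obtain rfl : m = 2 := by omega
      have : 3 ^ 2 ≤ p ^ 2 := Nat.pow_le_pow_left hp3 2
      simpa using (show 2 * 3 + 1 ≤ 3 ^ 2 by norm_num).trans this
    · have := small_unip_le hp3 m h'
      obtain ⟨k, rfl⟩ : ∃ k, m = k + 1 := ⟨m - 1, by omega⟩
      rw [Nat.add_sub_cancel] at this ⊢
      have := Nat.mul_le_mul_left (p ^ k) hp3
      rw [pow_succ]
      omega

omit hp [CharP F p] in
/-- The bound for an isometry of a symmetric form, odd characteristic. -/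
theorem orth_bound_odd (h2 : (2 : F) ≠ 0) {V : Type v} [AddCommGroup V] [Module F V] [FiniteDimensional F V]
    (B : BilinForm F V) (hS : B.IsSymm) (hB : B.Nondegenerate) {m : ℕ} (hm : 3 ≤ m)
    (hV : finrank F V ≤ 2 * m + 1) (g : Module.End F V) (hg : ∀ u w, B (g u) (g w) = B u w) :
    ∃ M : ℕ, 0 < M ∧ g ^ M = 1 ∧ (Fintype.card F - 1) * M ≤ Fintype.card F ^ (m + 1) := by
  classical
  obtain ⟨p, hp'⟩ := CharP.exists F
  haveI hp : Fact p.Prime := ⟨CharP.char_is_prime F p⟩
  have hp3 : 3 ≤ p := by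
    rcases hp.out.eq_two_or_odd with h | h
    · subst h
      exact absurd (CharP.cast_eq_zero F 2) (by exact_mod_cast h2)
    · have := hp.out.two_le; omega
  obtain ⟨S⟩ := orth_normal_form (p := p) h2 _ B hS hB rfl g hg
  have hsize := S.size
  set q := Fintype.card F with hqdef
  have hq : 2 ≤ q := Fintype.one_lt_card
  obtain ⟨n, -, hn⟩ := FiniteField.card F p
  have hpq : p ≤ q := by rw [hqdef, hn]; exact Nat.le_self_pow n.ne_zero p
  have hmono : ∀ {x y : ℕ}, x ≤ y → p ^ Nat.clog p x ∣ p ^ Nat.clog p y := fun h =>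
    pow_dvd_pow p (Nat.clog_mono_right p h)
  by_cases hP : S.P = []
  · refine ⟨2 * p ^ (m - 1), Nat.mul_pos two_pos (Nat.pow_pos hp.out.pos),
      S.rel _ (by rw [hP]; simp) ?_ ?_ (fun _ => even_two_mul _), ?_⟩
    · refine (pow_dvd_pow p (Nat.clog_le_of_le_pow ?_)).mul_left 2
      exact le_trans (by omega) (small_unip_le hp3 m hm)
    · refine (pow_dvd_pow p (Nat.clog_le_of_le_pow ?_)).mul_left 2
      exact le_trans (by omega) (small_unip_le hp3 m hm)
    · calc (q - 1) * (2 * p ^ (m - 1)) ≤ q * (q * q ^ (m - 1)) :=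
            Nat.mul_le_mul (Nat.sub_le q 1) (Nat.mul_le_mul hq (Nat.pow_le_pow_left hpq _))
        _ = q ^ (m + 1) := by rw [← pow_succ', ← pow_succ', show m - 1 + 1 + 1 = m + 1 by omega]
  · have hs1 : torSum S.P ≤ m := by omega
    set c := m - torSum S.P
    refine ⟨torLcm q S.P * p ^ c, Nat.mul_pos (torLcm_pos hq S.P S.pos) (Nat.pow_pos hp.out.pos),
      S.rel _ (fun x hx => (dvd_torLcm q S.P x hx).mul_right _) ?_ ?_ (fun _ => ?_), ?_⟩
    · refine (pow_dvd_pow p (Nat.clog_le_of_le_pow ?_)).mul_left _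
      exact le_trans (by omega) (two_mul_add_one_le hp3 c)
    · refine (pow_dvd_pow p (Nat.clog_le_of_le_pow ?_)).mul_left _
      exact le_trans (by omega) (two_mul_add_one_le hp3 c)
    · obtain ⟨x, hx⟩ := List.exists_mem_of_ne_nil _ hP
      exact (even_iff_two_dvd.2 ((even_iff_two_dvd.1 (even_torN (F := F) (p := p) (by omega) x.2)).trans
        (dvd_torLcm q S.P x hx))).mul_right _
    · rw [← mul_assoc, show m + 1 = (torSum S.P + 1) + c by omega, pow_add q (torSum S.P + 1)]
      exact Nat.mul_le_mul (torLcm_le hq S.P S.pos) (Nat.pow_le_pow_left hpq _)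

/-- The bound for an isometry of an alternating form, characteristic two. -/
theorem alt_bound_two [CharP F 2] {V : Type v} [AddCommGroup V] [Module F V] [FiniteDimensional F V]
    (B : BilinForm F V) (hA : B.IsAlt) (hB : B.Nondegenerate) {m : ℕ}
    (hV : finrank F V = 2 * m) (g : Module.End F V) (hg : ∀ u w, B (g u) (g w) = B u w) :
    ∃ M : ℕ, 0 < M ∧ g ^ M = 1 ∧ (Fintype.card F - 1) * M ≤ Fintype.card F ^ (m + 1) := by
  classical
  haveI : Fact (Nat.Prime 2) := ⟨Nat.prime_two⟩
  obtain ⟨S⟩ := normal_form (p := 2) m B hA hB hV g hg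
  have hsize := S.size
  set q := Fintype.card F with hqdef
  have hq : 2 ≤ q := Fintype.one_lt_card
  have hpd : ∀ {x y : ℕ}, x ≤ y → 2 ^ Nat.clog 2 (2 * x) ∣ 2 ^ Nat.clog 2 (2 * y) := fun h =>
    pow_dvd_pow 2 (Nat.clog_mono_right 2 (Nat.mul_le_mul_left 2 h))
  refine ⟨torLcm q S.P * 2 ^ Nat.clog 2 (2 * max S.a S.b), Nat.mul_pos (torLcm_pos hq S.P S.pos) (by positivity),
    S.rel _ (fun x hx => (dvd_torLcm q S.P x hx).mul_right _) ((hpd (le_max_left _ _)).mul_left _)
      ((hpd (le_max_right _ _)).mul_left _) (fun hb => ?_), ?_⟩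
  · exact (even_two.pow_of_ne_zero (Nat.clog_pos one_lt_two (show 1 < 2 * max S.a S.b by omega)).ne').mul_left _
  · rw [← mul_assoc, show m + 1 = (torSum S.P + 1) + (S.a + S.b) by omega, pow_add q (torSum S.P + 1)]
    refine Nat.mul_le_mul (torLcm_le hq S.P S.pos) ((pow_clog_le (F := F) (p := 2) _).trans ?_)
    exact Nat.pow_le_pow_right (by omega) (max_le (Nat.le_add_right _ _) (Nat.le_add_left _ _))

omit [Fintype F] hp [CharP F p] in
theorem polar_symm {V : Type v} [AddCommGroup V] [Module F V] (Q : QuadraticForm F V) : LinearMap.BilinForm.IsSymm (polarBilin Q) :=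
  ⟨fun x y => by rw [polarBilin_apply_apply, polarBilin_apply_apply, polar_comm]⟩

omit hp [CharP F p] in
/-- The bound in `PΩ`. -/
theorem pomega_bound {ι : Type} [Fintype ι] [DecidableEq ι] (Q : QuadraticForm F (ι → F))
    (hQ : (polarBilin Q).Nondegenerate) {m : ℕ} (hm : 3 ≤ m)
    (hι : ((2 : F) ≠ 0 ∧ Fintype.card ι ≤ 2 * m + 1) ∨ ((2 : F) = 0 ∧ Fintype.card ι = 2 * m))
    (y : Cfsg.POmega F ⇑Q) : (Fintype.card F - 1) * orderOf y ≤ Fintype.card F ^ (m + 1) := by
  classical
  obtain ⟨A, rfl⟩ := QuotientGroup.mk_surjective y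
  set g := CfsgLib.Quad.isoGroupEquiv Q A.1
  have hg : ∀ u w, polarBilin Q (toEnd Q g u) (toEnd Q g w) = polarBilin Q u w := fun u w => (toB Q g).2 u w
  obtain ⟨p, hp'⟩ := CharP.exists F
  haveI : Fact p.Prime := ⟨CharP.char_is_prime F p⟩
  obtain ⟨M, hM, h1, h3⟩ : ∃ M : ℕ, 0 < M ∧ toEnd Q g ^ M = 1 ∧
      (Fintype.card F - 1) * M ≤ Fintype.card F ^ (m + 1) := by
    rcases hι with ⟨h2, hc⟩ | ⟨h2, hc⟩
    · exact orth_bound_odd h2 (polarBilin Q) (polar_symm Q) hQ hm (by simpa using hc) _ hg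
    · haveI : CharP F 2 := CharTwo.of_one_ne_zero_of_two_eq_zero one_ne_zero h2
      exact alt_bound_two (polarBilin Q) (polar_alt Q) hQ (by simpa using hc) _ hg
  refine le_trans (Nat.mul_le_mul_left _ (Nat.le_of_dvd hM (orderOf_dvd_of_pow_eq_one ?_))) h3
  have h4 : g ^ M = 1 := toEnd_injective Q (by rw [map_pow, map_one, h1])
  have h5 : A ^ M = 1 := Subtype.ext ((CfsgLib.Quad.isoGroupEquiv Q).injective (by
    rw [SubmonoidClass.coe_pow, map_pow, OneMemClass.coe_one, map_one]
    exact h4))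
  rw [← QuotientGroup.mk_pow, h5]
  rfl

omit hp [CharP F p] in
/-- The three families. -/
theorem pomega_bounds (m : ℕ) :
    (3 ≤ m → Odd (Fintype.card F) → ∀ g : Cfsg.POmega F (Cfsg.quadFormOdd m F),
      (Fintype.card F - 1) * orderOf g ≤ Fintype.card F ^ (m + 1)) ∧
    (4 ≤ m → ∀ g : Cfsg.POmega F (Cfsg.quadFormPlus m F),
      (Fintype.card F - 1) * orderOf g ≤ Fintype.card F ^ (m + 1)) ∧
    (4 ≤ m → ∀ a b : F, (∀ z₁ z₂ : F, z₁ ^ 2 + a * z₁ * z₂ + b * z₂ ^ 2 = 0 → z₁ = 0 ∧ z₂ = 0) →
      ∀ g : Cfsg.POmega F (Cfsg.quadFormMinus (m - 1) F a b),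
      (Fintype.card F - 1) * orderOf g ≤ Fintype.card F ^ (m + 1)) := by
  refine ⟨fun hm hodd => ?_, fun hm => ?_, fun hm a b hab => ?_⟩
  · rw [← CfsgLib.Quad.oddQ_coe]
    have h2 : (2 : F) ≠ 0 := Ring.two_ne_zero (fun h => by
      have := FiniteField.even_card_of_char_two h
      rw [Nat.odd_iff] at hodd; omega)
    exact pomega_bound _ (CfsgLib.Quad.oddQ_nondeg h2 m) hm (Or.inl ⟨h2, by simp; omega⟩)
  · rw [← CfsgLib.Quad.plusQ_coe]
    refine pomega_bound _ (CfsgLib.Quad.plusQ_nondeg m) (by omega) ?_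
    by_cases h2 : (2 : F) = 0
    · exact Or.inr ⟨h2, by simp; omega⟩
    · exact Or.inl ⟨h2, by simp; omega⟩
  · rw [← CfsgLib.Quad.minusQ_coe]
    refine pomega_bound _ (CfsgLib.Quad.minusQ_nondeg hab (m - 1)) (by omega) ?_
    by_cases h2 : (2 : F) = 0
    · exact Or.inr ⟨h2, by simp; omega⟩
    · exact Or.inl ⟨h2, by simp; omega⟩

end CfsgLib.SpecSpEight
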