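import Cfsg.Agent.SpecSpEight.Main
import Cfsg.Agent.SpecSpEight.OrderBound
import Cfsg.Agent.OrderBC.SympElement
import Cfsg.Agent.Classical.SylowLargePrime

/-!
Adjacency in the prime graph of `PSp_{2n}(q)`.
-/

set_option autoImplicit false
set_option linter.style.haveILetI false

namespace CfsgLib.SpecSpEight

open Module CfsgLib.PrimeGraphBC

universe u

/-- `m` for odd `k = m`, `k / 2` for even `k`. -/
def IsEta (k m : ℕ) : Prop := (Odd k ∧ m = k) ∨ (Even k ∧ 2 * m = k)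

variable {r q : ℕ}

theorem dvd_sub_iff (hr : r.Prime) (hq : 1 ≤ q) (h : ℕ) :
    r ∣ q ^ h - 1 ↔ orderOf (q : ZMod r) ∣ h :=
  haveI := Fact.mk hr
  CfsgLib.SylowLarge.dvd_pow_sub_one_iff hq h

theorem dvd_add_cases (hr : r.Prime) (hr2 : r ≠ 2) (hq : 1 ≤ q) {h m : ℕ}
    (hm : IsEta (orderOf (q : ZMod r)) m) (hd : r ∣ q ^ h + 1) :
    Even (orderOf (q : ZMod r)) ∧ ∃ t, Odd t ∧ h = m * t := by
  haveI := Fact.mk hr
  haveI : Fact (2 < r) := ⟨by have := hr.two_le; omega⟩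
  set e := orderOf (q : ZMod r)
  have h1 : ((q : ZMod r)) ^ h = -1 := by
    have := (ZMod.natCast_eq_zero_iff (q ^ h + 1) r).2 hd
    push_cast at this
    exact eq_neg_of_add_eq_zero_left this
  have h2 : e ∣ 2 * h := by
    refine orderOf_dvd_of_pow_eq_one ?_
    rw [mul_comm, pow_mul, h1]; ring
  have h3 : ¬ e ∣ h := fun hc => by
    rw [orderOf_dvd_iff_pow_eq_one.1 hc] at h1
    exact ZMod.neg_one_ne_one h1.symm
  rcases Nat.even_or_odd e with he | he
  · refine ⟨he, ?_⟩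
    have hem : 2 * m = e := (hm.resolve_left fun hc => (Nat.not_odd_iff_even.2 he) hc.1).2
    rw [← hem, Nat.mul_dvd_mul_iff_left two_pos] at h2
    obtain ⟨t, ht⟩ := h2
    refine ⟨t, Nat.not_even_iff_odd.1 fun ⟨c, hc⟩ => h3 ?_, ht⟩
    exact ⟨c, by rw [ht, hc, ← hem]; ring⟩
  · exact absurd ((Nat.Coprime.dvd_mul_left (Nat.coprime_two_right.2 he)).1 h2) h3

theorem eta_le_of_dvd (hr : r.Prime) (hr2 : r ≠ 2) (hq : 1 ≤ q) {h m : ℕ} (hh : 1 ≤ h) (b : Bool)
    (hm : IsEta (orderOf (q : ZMod r)) m) (hd : r ∣ torN q h b) : m ≤ h := by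
  cases b
  · have hd' := (dvd_sub_iff hr hq h).1 (by simpa [torN] using hd)
    have := Nat.le_of_dvd hh hd'
    rcases hm with ⟨-, e⟩ | ⟨-, e⟩ <;> omega
  · obtain ⟨-, t, ht, rfl⟩ := dvd_add_cases hr hr2 hq hm (by simpa [torN] using hd)
    exact Nat.le_mul_of_pos_right m ht.pos

theorem one_le_eta (hr : r.Prime) (hrq : ¬ r ∣ q) {m : ℕ} (hm : IsEta (orderOf (q : ZMod r)) m) : 1 ≤ m := by
  haveI := Fact.mk hr
  have := CfsgLib.SylowLarge.orderOf_cast_pos (r := r) (q := q) hrq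
  rcases hm with ⟨-, e⟩ | ⟨-, e⟩ <;> omega

theorem exists_eta_torus (hr : r.Prime) (hr2 : r ≠ 2) (hq : 1 ≤ q) (hrq : ¬ r ∣ q) {m : ℕ}
    (hm : IsEta (orderOf (q : ZMod r)) m) :
    (Odd (orderOf (q : ZMod r)) ∧ r ∣ q ^ m - 1) ∨ (Even (orderOf (q : ZMod r)) ∧ r ∣ q ^ m + 1) := by
  haveI := Fact.mk hr
  have hpos := CfsgLib.SylowLarge.orderOf_cast_pos (r := r) (q := q) hrq
  rcases hm with ⟨ho, rfl⟩ | ⟨he, e⟩
  · exact Or.inl ⟨ho, (dvd_sub_iff hr hq _).2 dvd_rfl⟩
  · refine Or.inr ⟨he, ?_⟩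
    rw [← ZMod.natCast_eq_zero_iff]
    push_cast
    have h1 : ((q : ZMod r) ^ m) * ((q : ZMod r) ^ m) = 1 := by
      rw [← pow_add, ← two_mul, e, pow_orderOf_eq_one]
    rcases mul_self_eq_one_iff.1 h1 with h | h
    · exfalso
      have := Nat.le_of_dvd (by omega) (orderOf_dvd_of_pow_eq_one h)
      omega
    · rw [h]; ring

variable {F : Type u} [Field F] [Fintype F]

local notation "Sp" m => Matrix.symplecticGroup (Fin m) F

theorem exists_sp_torN (m : ℕ) (hm : 1 ≤ m) (b : Bool) :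
    ∃ z : Sp m, torN (Fintype.card F) m b ∣ orderOf z := by
  cases b
  · obtain ⟨z, hz⟩ := CfsgLib.SpecAbsorb.exists_sp_plus (F := F) hm
    exact ⟨z, by rw [hz]; simp [torN]⟩
  · by_cases h2 : (2 : F) = 0
    · haveI : CharP F 2 := CharTwo.of_one_ne_zero_of_two_eq_zero one_ne_zero h2
      obtain ⟨R, hR, g, hg⟩ := elem_minus (F := F) m hm
      obtain ⟨e, he⟩ := exists_std_alt (polar_alt R) hR.1 hR.2.1
      have hinj : Function.Injective (toB R) := fun x y h =>
        Subtype.ext (congrArg (fun t : bIso (QuadraticMap.polarBilin R) => t.1) h)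
      refine ⟨toSp e he (toB R g), ?_⟩
      rw [orderOf_injective _ (toSp_injective e he), orderOf_injective _ hinj]
      simpa [torN, Nat.card_eq_fintype_card] using hg
    · obtain ⟨z, hz⟩ := CfsgLib.OrderBC.exists_singer_symp F h2 hm
      exact ⟨z, by rw [hz]; simp [torN]⟩

theorem exists_sp_sum {i j n : ℕ} (hij : i + j ≤ n) (x : Sp i) (y : Sp j) :
    ∃ z : Sp n, orderOf z = Nat.lcm (orderOf x) (orderOf y) := by
  obtain ⟨d, rfl⟩ := Nat.exists_eq_add_of_le hij
  let ψ : ((Sp i) × (Sp j)) →* Sp (i + j) :=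
    (CfsgLib.Symp.congrSp (R := F) (finSumFinEquiv : Fin i ⊕ Fin j ≃ Fin (i + j))).toMonoidHom.comp
      CfsgLib.Symp.blockHom
  have hψ : Function.Injective ψ := fun a b h =>
    CfsgLib.Symp.blockHom_injective ((CfsgLib.Symp.congrSp _).injective h)
  let φ : ((Sp (i + j)) × (Sp d)) →* Sp (i + j + d) :=
    (CfsgLib.Symp.congrSp (R := F) (finSumFinEquiv : Fin (i + j) ⊕ Fin d ≃ Fin (i + j + d))).toMonoidHom.comp
      CfsgLib.Symp.blockHom
  have hφ : Function.Injective φ := fun a b h =>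
    CfsgLib.Symp.blockHom_injective ((CfsgLib.Symp.congrSp _).injective h)
  refine ⟨φ (ψ (x, y), 1), ?_⟩
  rw [orderOf_injective φ hφ, Prod.orderOf_mk, orderOf_one, Nat.lcm_one_right, orderOf_injective ψ hψ,
    Prod.orderOf_mk]

variable {p : ℕ} [hp : Fact p.Prime] [CharP F p]

theorem sp_pow_eq_one {n : ℕ} (A : Sp n) :
    ∃ S : List (ℕ × Bool), (∀ x ∈ S, 1 ≤ x.1) ∧ ∃ c e : ℕ, torSum S + c ≤ n ∧ (c = 0 → e = 1) ∧
      (∀ ℓ : ℕ, ℓ.Prime → ℓ ∣ e → ℓ = 2 ∨ ℓ = p) ∧ A ^ (torLcm (Fintype.card F) S * e) = 1 := by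
  classical
  obtain ⟨S⟩ := normal_form (p := p) n (stdB (F := F) n) (stdB_alt n) (stdB_nondeg n)
    (by simp; omega) (fromSp n A).1.toLinearMap (fromSp n A).2
  have hsize := S.size
  refine ⟨S.P, S.pos, S.a + S.b,
    if S.a + S.b = 0 then 1 else 2 * p ^ Nat.clog p (2 * (S.a + S.b)), by omega, fun h => if_pos h, ?_, ?_⟩
  · intro ℓ hl hd
    split_ifs at hd
    · exact absurd (Nat.dvd_one.1 hd) hl.ne_one
    · rcases hl.dvd_mul.1 hd with h | h
      · exact Or.inl ((Nat.prime_dvd_prime_iff_eq hl Nat.prime_two).1 h)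
      · exact Or.inr ((Nat.prime_dvd_prime_iff_eq hl hp.out).1 (hl.dvd_of_dvd_pow h))
  · have hdvd : ∀ x, x ≤ S.a + S.b → p ^ Nat.clog p (2 * x) ∣
        (if S.a + S.b = 0 then 1 else 2 * p ^ Nat.clog p (2 * (S.a + S.b))) := fun x hx => by
      split_ifs with h
      · obtain rfl : x = 0 := by omega
        simp
      · exact (pow_dvd_pow p (Nat.clog_mono_right p (Nat.mul_le_mul_left 2 hx))).mul_left 2
    have h := S.rel _ (fun x hx => (dvd_torLcm _ S.P x hx).mul_right _) ((hdvd _ (Nat.le_add_right _ _)).mul_left _)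
      ((hdvd _ (Nat.le_add_left _ _)).mul_left _) fun hb => by
        rw [if_neg (by omega)]
        exact (even_two_mul _).mul_left _
    apply fromSp_injective n
    rw [map_pow, map_one]
    exact Subtype.ext (LinearEquiv.toLinearMap_injective
      ((map_pow ((LinearEquiv.automorphismGroup.toLinearMapMonoidHom).comp
        (bIso (stdB (F := F) n)).subtype) (fromSp n A) _).trans h))

theorem dvd_torLcm_cases {q r : ℕ} (hr : r.Prime) : ∀ S : List (ℕ × Bool), r ∣ torLcm q S →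
    ∃ x ∈ S, r ∣ torN q x.1 x.2
  | [], h => absurd (Nat.dvd_one.1 h) hr.ne_one
  | y :: S, h => by
    rcases hr.dvd_mul.1 (h.trans (Nat.lcm_dvd_mul _ _)) with h' | h'
    · obtain ⟨x, hx, hxr⟩ := dvd_torLcm_cases hr S h'
      exact ⟨x, List.mem_cons_of_mem _ hx, hxr⟩
    · exact ⟨y, List.mem_cons_self .., h'⟩

theorem fst_le_torSum {S : List (ℕ × Bool)} {x : ℕ × Bool} (hx : x ∈ S) : x.1 ≤ torSum S :=
  List.le_sum_of_mem (List.mem_map_of_mem hx)

theorem add_le_torSum : ∀ {S : List (ℕ × Bool)} {x y : ℕ × Bool}, x ∈ S → y ∈ S → x ≠ y → x.1 + y.1 ≤ torSum S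
  | z :: S, x, y, hx, hy, hne => by
    have hz : torSum (z :: S) = z.1 + torSum S := rfl
    rw [hz]
    rcases List.mem_cons.1 hx with rfl | hx' <;> rcases List.mem_cons.1 hy with rfl | hy'
    · exact absurd rfl hne
    · exact Nat.add_le_add_left (fst_le_torSum hy') _
    · rw [Nat.add_comm x.1]; exact Nat.add_le_add_left (fst_le_torSum hx') _
    · exact (add_le_torSum hx' hy' hne).trans (Nat.le_add_left _ _)

theorem not_dvd_card (hr : r.Prime) (hrp : r ≠ p) : ¬ r ∣ Fintype.card F := fun h => by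
  obtain ⟨f, -, hf⟩ := FiniteField.card F p
  rw [hf] at h
  exact hrp ((Nat.prime_dvd_prime_iff_eq hr hp.out).1 (hr.dvd_of_dvd_pow h))

theorem exists_sp_eta (hr : r.Prime) (hr2 : r ≠ 2) (hrp : r ≠ p) {m : ℕ}
    (hm : IsEta (orderOf (Fintype.card F : ZMod r)) m) : ∃ z : Sp m, orderOf z = r := by
  have h1 := one_le_eta hr (not_dvd_card (F := F) hr hrp) hm
  rcases exists_eta_torus hr hr2 Fintype.card_pos (not_dvd_card (F := F) hr hrp) hm with ⟨-, h⟩ | ⟨-, h⟩
  · obtain ⟨z, hz⟩ := exists_sp_torN (F := F) m h1 false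
    exact CfsgLib.Spectrum.exists_orderOf_eq_of_dvd (orderOf_pos z) (h.trans (by simpa [torN] using hz))
  · obtain ⟨z, hz⟩ := exists_sp_torN (F := F) m h1 true
    exact CfsgLib.Spectrum.exists_orderOf_eq_of_dvd (orderOf_pos z) (h.trans (by simpa [torN] using hz))

theorem exists_dvd_sp {n : ℕ} {y : Cfsg.PSp n F} {N : ℕ} (hN : orderOf y = N) :
    ∃ A : Sp n, N ∣ orderOf A := by
  obtain ⟨A, rfl⟩ := QuotientGroup.mk_surjective y
  exact ⟨A, hN ▸ orderOf_map_dvd (QuotientGroup.mk' _) A⟩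

/-- An element of `Sp` keeps its order if that is odd or the centre is trivial. -/
theorem exists_psp_order {n N : ℕ} (hN : Odd N ∨ p = 2) {A : Sp n} (hA : orderOf A = N) :
    ∃ y : Cfsg.PSp n F, orderOf y = N := by
  refine ⟨QuotientGroup.mk A, ?_⟩
  refine Nat.dvd_antisymm (hA ▸ orderOf_map_dvd (QuotientGroup.mk' _) A) ?_
  rcases hN with h | rfl
  · exact CfsgLib.SpecAbsorb.odd_dvd_of_dvd_two_mul h (hA ▸ CfsgLib.SpecAbsorb.dvd_two_mul_orderOf_mk A)
  · refine hA ▸ orderOf_dvd_of_pow_eq_one (Subgroup.mem_bot.1 (center_sp_eq_bot (F := F) n ▸ ?_))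
    rw [← QuotientGroup.eq_one_iff, QuotientGroup.mk_pow, pow_orderOf_eq_one]

theorem eta_le_n (hr : r.Prime) (hr2 : r ≠ 2) (hrp : r ≠ p) {n m : ℕ} (hrG : r ∣ Nat.card (Cfsg.PSp n F))
    (hm : IsEta (orderOf (Fintype.card F : ZMod r)) m) : m ≤ n := by
  haveI := Fact.mk hr
  obtain ⟨y, hy⟩ := exists_prime_orderOf_dvd_card' r hrG
  obtain ⟨A, hA⟩ := exists_dvd_sp hy
  obtain ⟨S, hpos, c, e, hsum, -, he, hpow⟩ := sp_pow_eq_one (p := p) A
  rcases hr.dvd_mul.1 (hA.trans (orderOf_dvd_of_pow_eq_one hpow)) with h | h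
  · obtain ⟨x, hx, hxd⟩ := dvd_torLcm_cases hr S h
    have := eta_le_of_dvd hr hr2 Fintype.card_pos (hpos x hx) x.2 hm hxd
    have := fst_le_torSum hx
    omega
  · exact absurd (he r hr h) (by rintro (h | h) <;> contradiction)

/-- Two odd primes. -/
theorem psp_adjacent_iff {n r s : ℕ} (hr : r.Prime) (hs : s.Prime) (hr2 : r ≠ 2) (hs2 : s ≠ 2) (hrp : r ≠ p)
    (hsp : s ≠ p) (hrs : r ≠ s) (hsG : s ∣ Nat.card (Cfsg.PSp n F)) {ηk ηl : ℕ}
    (hk : IsEta (orderOf (Fintype.card F : ZMod r)) ηk) (hl : IsEta (orderOf (Fintype.card F : ZMod s)) ηl)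
    (hkl : ηk ≤ ηl) :
    r * s ∈ Set.range (orderOf : Cfsg.PSp n F → ℕ) ↔ ηk + ηl ≤ n ∨
      ∃ t : ℕ, Odd t ∧ orderOf (Fintype.card F : ZMod s) = orderOf (Fintype.card F : ZMod r) * t := by
  have hq : 1 ≤ Fintype.card F := Fintype.card_pos
  have hodd : Odd (r * s) := (hr.odd_of_ne_two hr2).mul (hs.odd_of_ne_two hs2)
  have hcop : r.Coprime s := (Nat.coprime_primes hr hs).2 hrs
  have hl1 := one_le_eta hs (not_dvd_card (F := F) hs hsp) hl
  set k := orderOf (Fintype.card F : ZMod r) with hkdef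
  set l := orderOf (Fintype.card F : ZMod s) with hldef
  constructor
  · rintro ⟨y, hy⟩
    obtain ⟨A, hA⟩ := exists_dvd_sp hy
    obtain ⟨S, hpos, c, e, hsum, -, he, hpow⟩ := sp_pow_eq_one (p := p) A
    have hd := hA.trans (orderOf_dvd_of_pow_eq_one hpow)
    obtain ⟨x, hx, hxr⟩ := dvd_torLcm_cases hr S ((hr.dvd_mul.1 ((dvd_mul_right r s).trans hd)).resolve_right
      fun h => by rcases he r hr h with h | h <;> contradiction)
    obtain ⟨z, hz, hzs⟩ := dvd_torLcm_cases hs S ((hs.dvd_mul.1 ((dvd_mul_left s r).trans hd)).resolve_right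
      fun h => by rcases he s hs h with h | h <;> contradiction)
    have hxk := eta_le_of_dvd hr hr2 hq (hpos x hx) x.2 hk hxr
    have hzl := eta_le_of_dvd hs hs2 hq (hpos z hz) z.2 hl hzs
    by_cases hxz : x = z
    · subst hxz
      refine (Nat.lt_or_ge n (ηk + ηl)).symm.imp id fun hn => ?_
      have hxn : x.1 < ηl + ηl := by
        have := fst_le_torSum hx
        omega
      obtain ⟨h, b⟩ := x
      cases b
      · have hkd : k ∣ h := (dvd_sub_iff hr hq h).1 (by simpa [torN] using hxr)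
        have hld : l ∣ h := (dvd_sub_iff hs hq h).1 (by simpa [torN] using hzs)
        have hh : 0 < h := hpos _ hx
        rcases hl with ⟨hlo, rfl⟩ | ⟨-, hle⟩
        · obtain ⟨w, rfl⟩ := hld
          obtain rfl : w = 1 := by
            by_contra hw
            have h0 : w ≠ 0 := fun e => by simp [e] at hh
            have : l * 2 ≤ l * w := Nat.mul_le_mul_left _ (by omega)
            simp only at hxn
            omega
          rw [mul_one] at hkd
          obtain ⟨t, ht⟩ := hkd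
          exact ⟨t, (Nat.odd_mul.1 (ht ▸ hlo)).2, ht⟩
        · have := Nat.le_of_dvd hh hld
          simp only at hxn
          omega
      · obtain ⟨hke, t, ht, hht⟩ := dvd_add_cases hr hr2 hq hk (by simpa [torN] using hxr)
        obtain ⟨hle, w, hw, hhw⟩ := dvd_add_cases hs hs2 hq hl (by simpa [torN] using hzs)
        obtain rfl : w = 1 := by
          by_contra hw1
          have : ηl * 2 ≤ ηl * w := Nat.mul_le_mul_left _ (by have := hw.pos; omega)
          simp only at hxn hhw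
          omega
        have hk2 : 2 * ηk = k := (hk.resolve_left fun h => Nat.not_odd_iff_even.2 hke h.1).2
        have hl2 : 2 * ηl = l := (hl.resolve_left fun h => Nat.not_odd_iff_even.2 hle h.1).2
        rw [mul_one] at hhw
        exact ⟨t, ht, by rw [← hk2, ← hl2, ← hhw, hht, mul_assoc]⟩
    · exact Or.inl ((Nat.add_le_add hxk hzl).trans ((add_le_torSum hx hz hxz).trans (by omega)))
  · rintro (h | ⟨t, ht, hlt⟩)
    · obtain ⟨x, hx⟩ := exists_sp_eta (F := F) hr hr2 hrp hk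
      obtain ⟨y, hy⟩ := exists_sp_eta (F := F) hs hs2 hsp hl
      obtain ⟨z, hz⟩ := exists_sp_sum h x y
      rw [hx, hy, hcop.lcm_eq_mul] at hz
      exact exists_psp_order (p := p) (Or.inl hodd) hz
    · have hln := eta_le_n hs hs2 hsp hsG hl
      obtain ⟨b, hb⟩ : ∃ b, r * s ∣ torN (Fintype.card F) ηl b := by
        rcases exists_eta_torus hs hs2 hq (not_dvd_card (F := F) hs hsp) hl with ⟨hlo, h⟩ | ⟨hle, h⟩
        · refine ⟨false, hcop.mul_dvd_of_dvd_of_dvd ?_ (by simpa [torN] using h)⟩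
          have hll : ηl = l := (hl.resolve_right fun h => Nat.not_odd_iff_even.2 h.1 hlo).2
          simp only [torN, Bool.false_eq_true, if_false]
          rw [dvd_sub_iff hr hq, hll, hlt]
          exact dvd_mul_right _ _
        · refine ⟨true, hcop.mul_dvd_of_dvd_of_dvd ?_ (by simpa [torN] using h)⟩
          have hke : Even k := ((Nat.even_mul.1 (hlt ▸ hle)).resolve_right (Nat.not_even_iff_odd.2 ht))
          have hk2 : 2 * ηk = k := (hk.resolve_left fun h => Nat.not_odd_iff_even.2 hke h.1).2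
          have hl2 : 2 * ηl = l := (hl.resolve_left fun h => Nat.not_odd_iff_even.2 hle h.1).2
          have hη : ηl = ηk * t := by
            refine Nat.eq_of_mul_eq_mul_left two_pos ?_
            rw [hl2, hlt, ← hk2, mul_assoc]
          obtain ⟨-, hrk⟩ := (exists_eta_torus hr hr2 hq (not_dvd_card (F := F) hr hrp) hk).resolve_left
            fun h => Nat.not_odd_iff_even.2 hke h.1
          simp only [torN, if_true]
          refine hrk.trans ?_
          rw [hη, pow_mul]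
          simpa using ht.nat_add_dvd_pow_add_pow (Fintype.card F ^ ηk) 1
      obtain ⟨z, hz⟩ := exists_sp_torN (F := F) ηl hl1 b
      obtain ⟨z', hz'⟩ := CfsgLib.Spectrum.exists_orderOf_eq_of_dvd (orderOf_pos z) (hb.trans hz)
      obtain ⟨w, hw⟩ := exists_sp_sum (show ηl + 0 ≤ n by omega) z' (1 : Sp 0)
      rw [hz', orderOf_one, Nat.lcm_one_right] at hw
      exact exists_psp_order (p := p) (Or.inl hodd) hw

/-- An odd prime and the characteristic. -/
theorem psp_adjacent_char_iff {n r : ℕ} (hn : 1 ≤ n) (hr : r.Prime) (hr2 : r ≠ 2) (hrp : r ≠ p) {ηk : ℕ}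
    (hk : IsEta (orderOf (Fintype.card F : ZMod r)) ηk) :
    r * p ∈ Set.range (orderOf : Cfsg.PSp n F → ℕ) ↔ ηk ≤ n - 1 := by
  constructor
  · rintro ⟨y, hy⟩
    obtain ⟨A, hA⟩ := exists_dvd_sp hy
    obtain ⟨S, hpos, c, e, hsum, hc, he, hpow⟩ := sp_pow_eq_one (p := p) A
    have hd := hA.trans (orderOf_dvd_of_pow_eq_one hpow)
    obtain ⟨x, hx, hxr⟩ := dvd_torLcm_cases hr S ((hr.dvd_mul.1 ((dvd_mul_right r p).trans hd)).resolve_right
      fun h => by rcases he r hr h with h | h <;> contradiction)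
    have hxk := eta_le_of_dvd hr hr2 Fintype.card_pos (hpos x hx) x.2 hk hxr
    have hc0 : c ≠ 0 := fun h0 => by
      rw [hc h0, mul_one] at hd
      obtain ⟨z, hz, hzp⟩ := dvd_torLcm_cases hp.out S ((dvd_mul_left p r).trans hd)
      exact (hp.out.coprime_iff_not_dvd.1 (torN_coprime (F := F) (hpos z hz) z.2).symm) hzp
    have := fst_le_torSum hx
    omega
  · intro h
    obtain ⟨x, hx⟩ := exists_sp_eta (F := F) hr hr2 hrp hk
    obtain ⟨u, hu⟩ := CfsgLib.PrimeGraphBC.exists_sp_order_p (F := F) (p := p) (k := 1) le_rfl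
    obtain ⟨z, hz⟩ := exists_sp_sum (show ηk + 1 ≤ n by omega) x u
    rw [hx, hu, ((Nat.coprime_primes hr hp.out).2 hrp).lcm_eq_mul] at hz
    refine exists_psp_order (p := p) ?_ hz
    rcases hp.out.eq_two_or_odd' with h2 | h2
    · exact Or.inr h2
    · exact Or.inl ((hr.odd_of_ne_two hr2).mul h2)

end CfsgLib.SpecSpEight
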