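import Cfsg.Agent.SpecSpEight.Upper
import Cfsg.Agent.PrimeGraphBC.Tools
import Cfsg.Agent.PrimeGraph.Basic

/-!
`Sp₈(q)`, `GO₈⁻(q)` and `V^k ⋊ Ω₈⁻(q)` have the same element orders, `q` even.
-/

set_option autoImplicit false
set_option linter.style.haveILetI false

namespace CfsgLib.SpecSpEight

open Module QuadraticMap CfsgLib.Forms CfsgLib.Quad CfsgLib.PrimeGraphBC

universe u v

variable {F : Type u} [Field F] [Fintype F] [CharP F 2] {V : Type v} [AddCommGroup V] [Module F V]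
  [FiniteDimensional F V]

theorem exists_ord {Q : QuadraticForm F V} (hQ : Sgn Q 4 (-1)) {T : ℕ × Finset (Fin 6)} (hT : T ∈ twelve) :
    ∃ g : oGroup Q, top (Fintype.card F) T ∣ orderOf g := by
  obtain ⟨R, hR, g, hg⟩ := (realised (F := F) T hT).1
  obtain ⟨e, he⟩ := minus_iso (m := 3) hR hQ
  exact ⟨oGroupCongr e he g, by rw [MulEquiv.orderOf_eq, ← Nat.card_eq_fintype_card]; exact hg⟩

theorem spectrum_oGroup {Q : QuadraticForm F V} (hQ : Sgn Q 4 (-1)) :
    Set.range (orderOf : oGroup Q → ℕ) = spectrum (Fintype.card F) := by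
  haveI := CfsgLib.Quad.finite_oGroup Q
  exact range_orderOf_eq (orth_pow_eq_one hQ.1 hQ.2.1) fun T hT => exists_ord hQ hT

theorem spectrum_goMinus (a b : F) (han : ∀ z₁ z₂ : F, z₁ ^ 2 + a * z₁ * z₂ + b * z₂ ^ 2 = 0 → z₁ = 0 ∧ z₂ = 0) :
    Set.range (orderOf : ↥(Cfsg.isometryGroup F (Cfsg.quadFormMinus 3 F a b)) → ℕ) =
      spectrum (Fintype.card F) := by
  rw [← minusQ_coe]
  have e := isoGroupEquiv (minusQ (F := F) 3 a b)
  rw [← spectrum_oGroup (sgn_minusQ han 3)]
  ext n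
  exact ⟨fun ⟨x, hx⟩ => ⟨e x, by rw [e.orderOf_eq, hx]⟩, fun ⟨x, hx⟩ => ⟨e.symm x, by rw [e.symm.orderOf_eq, hx]⟩⟩

omit [Fintype F] in
theorem center_sp_eq_bot (n : ℕ) : Subgroup.center (Matrix.symplecticGroup (Fin n) F) = ⊥ := by
  refine (Subgroup.eq_bot_iff_forall _).2 fun A hA => Subtype.ext ?_
  rcases CfsgLib.Symp.mem_center_iff.1 hA with e | e
  · exact e
  · rw [e]
    ext i j
    simp [CharTwo.neg_eq]

theorem spectrum_psp : Set.range (orderOf : Cfsg.PSp 4 F → ℕ) = spectrum (Fintype.card F) := by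
  classical
  let E : Cfsg.PSp 4 F ≃* Matrix.symplecticGroup (Fin 4) F :=
    (QuotientGroup.quotientMulEquivOfEq (center_sp_eq_bot (F := F) 4)).trans
      (QuotientGroup.quotientBot (G := Matrix.symplecticGroup (Fin 4) F))
  haveI : Finite (Cfsg.PSp 4 F) := inferInstance
  refine range_orderOf_eq (fun y => ?_) fun T hT => ?_
  · obtain ⟨T, hT, h⟩ := isometry_pow_eq_one (stdB (F := F) 4) (stdB_alt 4) (stdB_nondeg 4) (by simp)
      (fromSp 4 (E y)).1.toLinearMap (fromSp 4 (E y)).2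
    refine ⟨T, hT, E.injective (fromSp_injective 4 (Subtype.ext (LinearEquiv.toLinearMap_injective ?_)))⟩
    rw [map_pow, map_pow, map_one, map_one]
    exact (map_pow ((LinearEquiv.automorphismGroup.toLinearMapMonoidHom).comp (bIso (stdB (F := F) 4)).subtype)
      (fromSp 4 (E y)) _).trans h
  · obtain ⟨R, hR, g, hg⟩ := (realised (F := F) T hT).1
    obtain ⟨e, he⟩ := exists_std_alt (polar_alt R) hR.1 hR.2.1
    have hinj : Function.Injective (toB R) := fun x y h =>
      Subtype.ext (congrArg (fun t : bIso (polarBilin R) => t.1) h)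
    refine ⟨E.symm (toSp e he (toB R g)), ?_⟩
    rw [MulEquiv.orderOf_eq, orderOf_injective _ (toSp_injective e he), orderOf_injective _ hinj,
      ← Nat.card_eq_fintype_card]
    exact hg

section semidirect

variable {W : Type v} [AddCommGroup W] [Module F W] (Q : QuadraticForm F W) (k : ℕ)

/-- The diagonal action of `Omega` on `W^k`. -/
def piAct : ↥(commutator (oGroup Q)) →* MulAut (Multiplicative (Fin k → W)) where
  toFun g := AddEquiv.toMultiplicative (LinearEquiv.piCongrRight fun _ : Fin k => g.1.1).toAddEquiv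
  map_one' := MulEquiv.ext fun _ => rfl
  map_mul' _ _ := MulEquiv.ext fun _ => rfl

omit [Fintype F] [CharP F 2] in
theorem piAct_apply (g : ↥(commutator (oGroup Q))) (v : Fin k → W) :
    piAct Q k g (Multiplicative.ofAdd v) = Multiplicative.ofAdd fun i => g.1.1 (v i) := rfl

omit [Fintype F] [CharP F 2] in
theorem semi_pow (v : Fin k → W) (g : ↥(commutator (oGroup Q))) :
    ∀ j : ℕ, (⟨Multiplicative.ofAdd v, g⟩ : Multiplicative (Fin k → W) ⋊[piAct Q k] _) ^ j =
      ⟨Multiplicative.ofAdd fun i => gsum (toEnd Q g.1) j (v i), g ^ j⟩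
  | 0 => by
    rw [pow_zero, pow_zero]
    refine SemidirectProduct.ext ?_ rfl
    simp [gsum]
    rfl
  | j + 1 => by
    rw [pow_succ, semi_pow v g j, pow_succ g]
    refine SemidirectProduct.ext ?_ rfl
    simp only [SemidirectProduct.mul_left, piAct_apply, ← ofAdd_add]
    refine congrArg Multiplicative.ofAdd (funext fun i => ?_)
    simp only [Pi.add_apply, gsum, Finset.sum_range_succ, LinearMap.add_apply, ← map_pow]
    rfl

end semidirect

theorem exists_aniso_zeta : ∃ ζ : F, ∀ t : F, t ^ 2 + t + ζ ≠ 0 := by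
  by_contra hc
  push Not at hc
  have hs : Function.Surjective fun t : F => t ^ 2 + t := fun z => by
    obtain ⟨t, ht⟩ := hc z
    exact ⟨t, CharTwo.add_eq_zero.1 ht⟩
  have := (Finite.injective_iff_surjective.2 hs) (a₁ := 0) (a₂ := 1) (by simp [CharTwo.add_self_eq_zero])
  exact zero_ne_one this

theorem unbounded (M : ℕ) : ∃ (H : Type) (_ : Group H) (_ : Fintype H),
    M < Fintype.card H ∧ Set.range (orderOf : H → ℕ) = Set.range (orderOf : Cfsg.PSp 4 F → ℕ) := by
  classical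
  obtain ⟨ζ, hζ⟩ := exists_aniso_zeta (F := F)
  have hQ := sgn_minusQ (CfsgLib.QuadStd.plane_aniso hζ) 3
  set Q : QuadraticForm F ((Fin 3 ⊕ Fin 3) ⊕ Fin 2 → F) := minusQ 3 1 ζ
  haveI := CfsgLib.Quad.finite_oGroup Q
  set S := Multiplicative (Fin (M + 1) → (Fin 3 ⊕ Fin 3) ⊕ Fin 2 → F) ⋊[piAct Q (M + 1)] ↥(commutator (oGroup Q))
  haveI : Finite S := Finite.of_equiv _ SemidirectProduct.equivProd.symm
  obtain ⟨H, hH, hHf, ⟨e⟩⟩ := CfsgLib.PrimeGraph.exists_type0_copy S
  refine ⟨H, hH, hHf, ?_, ?_⟩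
  · rw [← Nat.card_eq_fintype_card, Nat.card_congr e.toEquiv, SemidirectProduct.card,
      Nat.card_congr (Multiplicative.toAdd (α := Fin (M + 1) → (Fin 3 ⊕ Fin 3) ⊕ Fin 2 → F)), Nat.card_fun, Nat.card_fin]
    refine lt_of_lt_of_le ((Nat.lt_succ_self M).trans (Nat.lt_two_pow_self (n := M + 1))) ?_
    refine le_trans (Nat.pow_le_pow_left ?_ (M + 1)) (Nat.le_mul_of_pos_right _ Nat.card_pos)
    exact Finite.one_lt_card
  · rw [spectrum_psp, ← range_orderOf_eq (G := S) (q := Fintype.card F) (fun x => ?_) fun T hT => ?_]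
    · ext n
      exact ⟨fun ⟨x, hx⟩ => ⟨e x, by rw [e.orderOf_eq, hx]⟩,
        fun ⟨x, hx⟩ => ⟨e.symm x, by rw [e.symm.orderOf_eq, hx]⟩⟩
    · obtain ⟨v, g⟩ := x
      obtain ⟨T, hT, h1, h2⟩ := affine_pow_eq_one hQ.1 hQ.2.1 g.1 g.2
      refine ⟨T, hT, ?_⟩
      rw [show v = Multiplicative.ofAdd (Multiplicative.toAdd v) from rfl, semi_pow]
      refine SemidirectProduct.ext ?_ (Subtype.ext (by simpa using h1))
      simp only [h2, LinearMap.zero_apply]
      rfl
    · obtain ⟨⟨R, hR, -⟩, hAff⟩ := realised (F := F) T hT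
      obtain ⟨φ, hφ⟩ := minus_iso (m := 3) hR hQ
      obtain ⟨g, hg, v, hgv⟩ := (hAff R hR).congr φ hφ
      let x : S := ⟨Multiplicative.ofAdd fun _ => v, ⟨g, hg⟩⟩
      refine ⟨x, ?_⟩
      have h := pow_orderOf_eq_one x
      rw [semi_pow] at h
      have h1 : g ^ orderOf x = 1 := congrArg (fun y : S => (y.right : oGroup Q)) h
      have h2 := congrFun (congrArg (fun y : S => Multiplicative.toAdd y.left) h) 0
      rw [← Nat.card_eq_fintype_card]
      exact hgv _ h1 h2

end CfsgLib.SpecSpEight
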