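import Cfsg.Agent.SpecSpEight.NormalForm

/-!
Element orders in dimension eight, even characteristic: every shape divides one of twelve numbers.
-/

set_option autoImplicit false

namespace CfsgLib.SpecSpEight

open Module
open LinearMap (BilinForm)

/-- `q - 1`, `q + 1`, `q² + 1`, `q² + q + 1`, `q² - q + 1`, `q⁴ + 1`. -/
def fac (q : ℕ) : Fin 6 → ℕ :=
  ![q - 1, q + 1, q ^ 2 + 1, q ^ 2 + q + 1, q * (q - 1) + 1, q ^ 4 + 1]

/-- A product of formal factors. -/
def val (q : ℕ) (S : Finset (Fin 6)) : ℕ := ∏ i ∈ S, fac q i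

/-- The factors of a torus. -/
def piece : ℕ → Bool → Finset (Fin 6)
  | 1, false => {0} | 1, true => {1}
  | 2, false => {0, 1} | 2, true => {2}
  | 3, false => {0, 3} | 3, true => {1, 4}
  | 4, false => {0, 1, 2} | 4, true => {5}
  | _, _ => ∅

/-- The maximal unions of torus factors of total size `s`. -/
def good : ℕ → List (Finset (Fin 6))
  | 0 => [∅]
  | 1 => [{0}, {1}]
  | 2 => [{0, 1}, {2}]
  | 3 => [{0, 3}, {1, 4}, {0, 2}, {1, 2}, {0, 1}]
  | 4 => [{5}, {0, 1, 2}, {0, 1, 3}, {0, 1, 4}]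
  | _ => []

/-- The twelve maximal orders: a power of two and a set of factors. -/
def twelve : List (ℕ × Finset (Fin 6)) :=
  [(1, {5}), (1, {0, 1, 2}), (1, {0, 1, 3}), (1, {0, 1, 4}), (2, {0, 3}), (2, {1, 4}), (2, {0, 2}),
    (2, {1, 2}), (4, {0, 1}), (4, {2}), (8, {0}), (8, {1})]

/-- The number attached to an entry of `twelve`. -/
def top (q : ℕ) (T : ℕ × Finset (Fin 6)) : ℕ := T.1 * val q T.2

/-- The spectrum common to `Sp₈(q)` and `GO₈⁻(q)`, `q` even. -/
def spectrum (q : ℕ) : Set ℕ := {N | ∃ T ∈ twelve, N ∣ top q T}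

theorem torN_eq_val {q : ℕ} (hq : 1 ≤ q) : ∀ h : ℕ, 1 ≤ h → h ≤ 4 → ∀ m, torN q h m = val q (piece h m) := by
  obtain ⟨r, rfl⟩ := Nat.exists_eq_add_of_le' hq
  intro h h1 h4 m
  interval_cases h <;> cases m <;>
    simp [torN, val, piece, fac, Finset.prod_insert] <;>
    first
      | ring1
      | exact Nat.sub_eq_of_eq_add (by ring)

theorem good_step : ∀ s : Fin 5, ∀ x ∈ good s, ∀ h : Fin 5, ∀ m : Bool, 1 ≤ (h : ℕ) → (s : ℕ) + h ≤ 4 →
    ∃ y ∈ good (s + h), x ∪ piece h m ⊆ y := by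
  decide +kernel

theorem good_final : ∀ s : Fin 5, ∀ x ∈ good s, ∃ T ∈ twelve, x ⊆ T.2 ∧
    [8, 8, 4, 2, 1].getD s 0 ∣ T.1 := by
  decide +kernel

theorem pow_clog_dvd : ∀ s : Fin 5, ∀ c : Fin 5, (c : ℕ) + s ≤ 4 →
    2 ^ Nat.clog 2 (2 * c) ∣ [8, 8, 4, 2, 1].getD s 0 := by
  intro s c h
  have h2 : Nat.clog 2 (2 * c) ≤ Nat.clog 2 (2 * (4 - s)) := Nat.clog_mono_right 2 (by omega)
  refine (pow_dvd_pow 2 h2).trans (dvd_of_eq ?_)
  fin_cases s <;> simp [Nat.clog_of_two_le]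

theorem good_of_list : ∀ P : List (ℕ × Bool), (∀ x ∈ P, 1 ≤ x.1) → torSum P ≤ 4 →
    ∃ y ∈ good (torSum P), ∀ x ∈ P, piece x.1 x.2 ⊆ y
  | [], _, _ => ⟨∅, by simp [torSum, good], by simp⟩
  | z :: P, hpos, hs => by
    have hz : torSum (z :: P) = torSum P + z.1 := by simp [torSum, add_comm]
    rw [hz] at hs ⊢
    obtain ⟨y, hy, hsub⟩ := good_of_list P (fun x hx => hpos x (List.mem_cons_of_mem _ hx)) (by omega)
    obtain ⟨w, hw, hxw⟩ := good_step ⟨torSum P, by omega⟩ y hy ⟨z.1, by omega⟩ z.2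
      (hpos z (List.mem_cons_self ..)) hs
    refine ⟨w, hw, fun x hx => ?_⟩
    rcases List.mem_cons.1 hx with rfl | hx
    · exact Finset.union_subset_right hxw
    · exact (hsub x hx).trans (Finset.union_subset_left hxw)

universe u v

/-- The order of an isometry of a symplectic space of dimension eight divides one of the twelve numbers. -/
theorem isometry_pow_eq_one {F : Type u} [Field F] [Fintype F] [CharP F 2] {V : Type v} [AddCommGroup V]
    [Module F V] [FiniteDimensional F V] (B : BilinForm F V) (hA : B.IsAlt) (hB : B.Nondegenerate)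
    (hV : finrank F V = 8) (g : Module.End F V) (hg : ∀ u w, B (g u) (g w) = B u w) :
    ∃ T ∈ twelve, g ^ top (Fintype.card F) T = 1 := by
  haveI : Fact (Nat.Prime 2) := ⟨Nat.prime_two⟩
  obtain ⟨S⟩ := normal_form (p := 2) 4 B hA hB (by omega) g hg
  have hsize := S.size
  obtain ⟨y, hy, hsub⟩ := good_of_list S.P S.pos (by omega)
  obtain ⟨T, hT, hyT, hc⟩ := good_final ⟨torSum S.P, by omega⟩ y hy
  refine ⟨T, hT, S.rel _ (fun x hx => ?_) ?_ ?_ fun hb => ?_⟩
  · have h1 : x.1 ≤ torSum S.P := List.le_sum_of_mem (List.mem_map_of_mem hx)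
    rw [torN_eq_val Fintype.card_pos _ (S.pos x hx) (by omega)]
    exact Dvd.dvd.mul_left (Finset.prod_dvd_prod_of_subset _ _ _ ((hsub x hx).trans hyT)) _
  · exact ((pow_clog_dvd ⟨torSum S.P, by omega⟩ ⟨S.a, by omega⟩ (by simp; omega)).trans hc).mul_right _
  · exact ((pow_clog_dvd ⟨torSum S.P, by omega⟩ ⟨S.b, by omega⟩ (by simp; omega)).trans hc).mul_right _
  · have h2 : (2 : ℕ) ∣ 2 ^ Nat.clog 2 (2 * S.b) :=
      dvd_pow_self 2 (Nat.clog_pos one_lt_two (by omega)).ne'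
    exact even_iff_two_dvd.2 ((h2.trans
      ((pow_clog_dvd ⟨torSum S.P, by omega⟩ ⟨S.b, by omega⟩ (by simp; omega)).trans hc)).mul_right _)

/-- A finite group all of whose orders divide, and which attains, the twelve numbers has that spectrum. -/
theorem range_orderOf_eq {G : Type v} [Group G] [Finite G] {q : ℕ}
    (hU : ∀ g : G, ∃ T ∈ twelve, g ^ top q T = 1) (hL : ∀ T ∈ twelve, ∃ g : G, top q T ∣ orderOf g) :
    Set.range (orderOf : G → ℕ) = spectrum q := by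
  ext N
  constructor
  · rintro ⟨g, rfl⟩
    obtain ⟨T, hT, h⟩ := hU g
    exact ⟨T, hT, orderOf_dvd_of_pow_eq_one h⟩
  · rintro ⟨T, hT, hN⟩
    obtain ⟨g, hg⟩ := hL T hT
    obtain ⟨c, hc⟩ := hN.trans hg
    have h0 : orderOf g ≠ 0 := (orderOf_pos g).ne'
    refine ⟨g ^ c, ?_⟩
    rw [hc] at h0
    rw [orderOf_pow' g (right_ne_zero_of_mul h0), hc, Nat.gcd_eq_right (Dvd.intro_left N rfl),
      Nat.mul_div_cancel _ (Nat.pos_of_ne_zero (right_ne_zero_of_mul h0))]

end CfsgLib.SpecSpEight
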