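import Cfsg.Agent.SpecSpEight.Torus
import Cfsg.Agent.Quad.Reflect

/-!
Unipotent isometries of orders `4` and `8` built on a reflection, and geometric sums of unipotent maps.
-/

set_option autoImplicit false
set_option linter.style.haveILetI false

namespace CfsgLib.SpecSpEight

open Module QuadraticMap CfsgLib.Forms CfsgLib.Quad

universe u

variable {F : Type u} [Field F] {W : Type*} [AddCommGroup W] [Module F W]

/-- An isometry as an endomorphism. -/
def toEnd (Q : QuadraticForm F W) : oGroup Q →* Module.End F W :=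
  (LinearEquiv.automorphismGroup.toLinearMapMonoidHom).comp (oGroup Q).subtype

theorem toEnd_apply (Q : QuadraticForm F W) (g : oGroup Q) (v : W) : toEnd Q g v = g.1 v := rfl

theorem toEnd_injective (Q : QuadraticForm F W) : Function.Injective (toEnd Q) := fun _ _ h =>
  Subtype.ext (LinearEquiv.toLinearMap_injective h)

/-- The geometric sum `1 + g + ⋯ + g^(j-1)`. -/
def gsum (g : Module.End F W) (j : ℕ) : Module.End F W := ∑ i ∈ Finset.range j, g ^ i

theorem gsum_mul_sub (g : Module.End F W) (j : ℕ) : (g - 1) * gsum g j = g ^ j - 1 := mul_geom_sum g j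

theorem gsum_mul (g : Module.End F W) {N : ℕ} (hN : g ^ N = 1) (c : ℕ) : gsum g (N * c) = c • gsum g N := by
  induction c with
  | zero => simp [gsum]
  | succ c ih =>
    rw [Nat.mul_succ, gsum, Finset.sum_range_add, succ_nsmul, ← ih]
    refine congrArg₂ (· + ·) rfl (Finset.sum_congr rfl fun i _ => ?_)
    rw [pow_add, pow_mul, hN, one_pow, one_mul]

variable [CharP F 2]

theorem two_nsmul_zero (F : Type u) [Field F] [CharP F 2] {W : Type*} [AddCommGroup W] [Module F W] (x : W) : (2 : ℕ) • x = 0 := by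
  rw [← Nat.cast_smul_eq_nsmul F, show ((2 : ℕ) : F) = 0 from CharP.cast_eq_zero F 2, zero_smul]

theorem add_self_zero (F : Type u) [Field F] [CharP F 2] {W : Type*} [AddCommGroup W] [Module F W] (x : W) : x + x = 0 := by rw [← two_nsmul, two_nsmul_zero F]

theorem charP_end [Nontrivial W] : CharP (Module.End F W) 2 :=
  charP_of_injective_algebraMap (FaithfulSMul.algebraMap_injective F _) 2

theorem sub_one_pow (g : Module.End F W) (e : ℕ) : (g - 1) ^ 2 ^ e = g ^ 2 ^ e - 1 := by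
  haveI : Fact (Nat.Prime 2) := ⟨Nat.prime_two⟩
  rcases subsingleton_or_nontrivial W with _ | _
  · exact LinearMap.ext fun _ => Subsingleton.elim _ _
  · haveI := charP_end (F := F) (W := W)
    rw [sub_pow_char_pow_of_commute 2 _ (Commute.one_right _), one_pow]

theorem add_one_eq_sub (g : Module.End F W) : g + 1 = g - 1 :=
  eq_sub_of_add_eq (LinearMap.ext fun w => by
    simp only [LinearMap.add_apply, Module.End.one_apply]
    rw [add_assoc, add_self_zero F, add_zero])

theorem gsum_two_pow (g : Module.End F W) : ∀ e : ℕ, gsum g (2 ^ e) = (g - 1) ^ (2 ^ e - 1)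
  | 0 => by simp [gsum]
  | e + 1 => by
    have h1 : gsum g (2 ^ e * 2) = gsum g (2 ^ e) * (g ^ 2 ^ e + 1) := by
      rw [gsum, Nat.mul_two, Finset.sum_range_add, mul_add, mul_one, add_comm, ← gsum]
      refine congrArg₂ (· + ·) ?_ rfl
      rw [gsum, Finset.sum_mul]
      exact Finset.sum_congr rfl fun i _ => by rw [← pow_add, add_comm]
    rw [pow_succ, h1, gsum_two_pow g e, add_one_eq_sub, ← sub_one_pow, ← pow_add]
    congr 1
    have := Nat.one_le_two_pow (n := e)
    omega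

/-- The criterion for a vector to raise the order of `g` to `2^(e+1)`. -/
theorem crit (g : Module.End F W) {e : ℕ} (hg : g ^ 2 ^ e = 1) {v : W} (hv : ((g - 1) ^ (2 ^ e - 1) : Module.End F W) v ≠ 0)
    {j : ℕ} (hj : g ^ j = 1) (hs : gsum g j v = 0) : 2 ^ (e + 1) ∣ j := by
  have hgcd : g ^ Nat.gcd (2 ^ e) j = 1 := pow_gcd_eq_one.2 ⟨hg, hj⟩
  obtain ⟨k, hk, hk'⟩ := (Nat.dvd_prime_pow Nat.prime_two).1 (Nat.gcd_dvd_left (2 ^ e) j)
  obtain rfl : k = e := by
    by_contra hne
    rw [hk'] at hgcd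
    have h0 : (g - 1) ^ 2 ^ k = 0 := by rw [sub_one_pow, hgcd, sub_self]
    have hle : 2 ^ k ≤ 2 ^ e - 1 := by
      have : 2 ^ k < 2 ^ e := Nat.pow_lt_pow_right one_lt_two (by omega)
      omega
    rw [pow_eq_zero_of_le hle h0] at hv
    exact hv rfl
  obtain ⟨c, rfl⟩ : 2 ^ k ∣ j := hk' ▸ Nat.gcd_dvd_right (2 ^ k) j
  rw [gsum_mul g hg, gsum_two_pow, LinearMap.smul_apply] at hs
  rw [pow_succ]
  refine mul_dvd_mul_left _ ?_
  rcases Nat.even_or_odd c with h | ⟨w, rfl⟩
  · exact even_iff_two_dvd.1 h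
  · rw [add_smul, one_smul, mul_smul, two_nsmul_zero F, zero_add] at hs
    exact absurd hs hv

theorem orderOf_eq_two_pow {G : Type*} [Monoid G] {g : G} {e : ℕ} (h : g ^ 2 ^ (e + 1) = 1) (h' : g ^ 2 ^ e ≠ 1) :
    orderOf g = 2 ^ (e + 1) :=
  haveI : Fact (Nat.Prime 2) := ⟨Nat.prime_two⟩
  orderOf_eq_prime_pow h' h

section hyp

variable [FiniteDimensional F W] (Q : QuadraticForm F W) (u : oGroup Q) (c : W)

/-- The linear map of the extension of `u` by a hyperbolic plane. -/
def hypFun : ((F × F) × W) →ₗ[F] ((F × F) × W) where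
  toFun p := ((p.1.1 + (polar Q (u.1 p.2) c + p.1.2 * Q c), p.1.2), u.1 p.2 + p.1.2 • c)
  map_add' p r := by
    refine Prod.ext (Prod.ext ?_ rfl) ?_
    · simp only [Prod.fst_add, Prod.snd_add, map_add, polar_add_left]; ring
    · simp only [Prod.fst_add, Prod.snd_add, map_add, add_smul]; abel
  map_smul' t p := by
    refine Prod.ext (Prod.ext ?_ rfl) ?_
    · simp only [Prod.smul_fst, Prod.smul_snd, map_smul, polar_smul_left, smul_eq_mul, RingHom.id_apply]; ring
    · simp only [Prod.smul_fst, Prod.smul_snd, map_smul, smul_eq_mul, RingHom.id_apply, smul_add, mul_smul]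

omit [CharP F 2] [FiniteDimensional F W] in
theorem hypFun_apply (p : (F × F) × W) :
    hypFun Q u c p = ((p.1.1 + (polar Q (u.1 p.2) c + p.1.2 * Q c), p.1.2), u.1 p.2 + p.1.2 • c) := rfl

omit [CharP F 2] [FiniteDimensional F W] in
theorem hypFun_injective : Function.Injective (hypFun Q u c) := fun p r h => by
  rw [hypFun_apply, hypFun_apply, Prod.ext_iff, Prod.ext_iff] at h
  obtain ⟨⟨h1, h2⟩, h3⟩ := h
  simp only at h1 h2 h3
  rw [h2] at h3
  have h4 : p.2 = r.2 := u.1.injective (add_right_cancel h3)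
  rw [h2, h4] at h1
  exact Prod.ext (Prod.ext (add_right_cancel h1) h2) h4

/-- The extension of `u` by a hyperbolic plane. -/
noncomputable def hypMap : oGroup (hypSum Q) :=
  ⟨LinearEquiv.ofInjectiveEndo (hypFun Q u c) (hypFun_injective Q u c), fun p => by
    show hypSum Q (hypFun Q u c p) = hypSum Q p
    rw [hypFun_apply, hypSum_apply, hypSum_apply, quad_add, quad_smul, polar_smul_right, u.2]
    simp only [smul_eq_mul]
    linear_combination (p.1.2 * polar Q (u.1 p.2) c + p.1.2 * p.1.2 * Q c) * (CharTwo.two_eq_zero (R := F))⟩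

/-- `u + 1`. -/
local notation "D" => toEnd Q u - 1

/-- `G + 1` for the extension. -/
local notation "E" => toEnd (hypSum Q) (hypMap Q u c) - 1

theorem hypMap_dev (p : (F × F) × W) :
    E p = ((polar Q (u.1 p.2) c + p.1.2 * Q c, 0), D p.2 + p.1.2 • c) := by
  rw [LinearMap.sub_apply, toEnd_apply, Module.End.one_apply]
  show hypFun Q u c p - p = _
  rw [hypFun_apply]
  refine Prod.ext (Prod.ext ?_ ?_) ?_
  · show p.1.1 + _ - p.1.1 = _
    ring
  · exact sub_self p.1.2
  · show u.1 p.2 + p.1.2 • c - p.2 = u.1 p.2 - p.2 + p.1.2 • c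
    abel

theorem hypMap_dev_iter : ∀ (k : ℕ) (x : F) (w : W),
    (E ^ (k + 1)) ((x, 0), w) = ((polar Q (u.1 ((D ^ k) w)) c, 0), (D ^ (k + 1)) w)
  | 0, x, w => by
    rw [pow_one, pow_zero, pow_one, hypMap_dev]
    simp
  | k + 1, x, w => by
    rw [pow_succ' E (k + 1), Module.End.mul_apply, hypMap_dev_iter k x w, hypMap_dev]
    refine Prod.ext (Prod.ext ?_ rfl) ?_
    · simp
    · rw [pow_succ' D (k + 1), Module.End.mul_apply]; simp

theorem hypMap_dev_f (k : ℕ) :
    (E ^ (k + 2)) ((0, 1), (0 : W)) = ((polar Q (u.1 ((D ^ k) c)) c, 0), (D ^ (k + 1)) c) := by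
  rw [pow_succ E (k + 1), Module.End.mul_apply, hypMap_dev]
  simp only [map_zero, zero_add, one_smul, polar_zero_left, one_mul]
  exact hypMap_dev_iter Q u c k _ _

theorem hypMap_nil {m : ℕ} (hm : D ^ m = 0) : E ^ (m + 2) = 0 := by
  refine LinearMap.ext fun p => ?_
  rw [pow_succ E (m + 1), Module.End.mul_apply, hypMap_dev]
  generalize D p.2 + p.1.2 • c = w
  rw [hypMap_dev_iter, hm, pow_succ, hm, zero_mul]
  simp

end hyp

/-- A unipotent of order `2^(e+1)` with a vector. -/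
def Unip (F : Type u) [Field F] (m : ℕ) (s : ℤ) (e : ℕ) : Prop :=
  ∃ Q : QuadraticForm F (Fin (2 * m) → F), Sgn Q m s ∧ ∃ g : oGroup Q,
    toEnd Q g ^ 2 ^ (e + 1) = 1 ∧ toEnd Q g ^ 2 ^ e ≠ 1 ∧ ∃ v, ((toEnd Q g - 1) ^ (2 ^ (e + 1) - 1) : Module.End F (Fin (2 * m) → F)) v ≠ 0

variable [Finite F]

theorem sgn_hypSum [FiniteDimensional F W] {Q : QuadraticForm F W} {m : ℕ} {s : ℤ} (h : Sgn Q m s) :
    Sgn (hypSum Q) (m + 1) s := by
  let e : (F × F) ≃ₗ[F] (Fin 1 ⊕ Fin 1 → F) :=
    { toFun := fun p => Sum.elim (fun _ => p.1) fun _ => p.2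
      map_add' := fun p r => by funext i; rcases i with i | i <;> rfl
      map_smul' := fun t p => by funext i; rcases i with i | i <;> rfl
      invFun := fun f => (f (.inl 0), f (.inr 0))
      left_inv := fun p => rfl
      right_inv := fun f => by funext i; rcases i with i | i <;> simp [Subsingleton.elim i 0] }
  have hH : Sgn (hypPlane F) 1 1 := (sgn_plusQ 1).of_equiv e fun p => by
    rw [plusQ_coe, hypPlane_apply]; simp [Cfsg.quadFormPlus]; rfl
  have := hH.prod h
  rwa [one_mul, add_comm] at this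

omit [CharP F 2] [Finite F] in
theorem oGroupCongr_toEnd {V : Type*} [AddCommGroup V] [Module F V] {Q : QuadraticForm F W}
    {R : QuadraticForm F V} (e : W ≃ₗ[F] V) (he : ∀ v, R (e v) = Q v) (g : oGroup Q) :
    toEnd R (oGroupCongr e he g) = e.conjAlgEquiv F (toEnd Q g) := rfl

omit [CharP F 2] [Finite F] in
theorem unip_of [FiniteDimensional F W] {Q : QuadraticForm F W} {m : ℕ} {s : ℤ} (h : Sgn Q m s) {e : ℕ}
    (g : oGroup Q) (h1 : toEnd Q g ^ 2 ^ (e + 1) = 1) (h2 : toEnd Q g ^ 2 ^ e ≠ 1) {v : W}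
    (hv : ((toEnd Q g - 1) ^ (2 ^ (e + 1) - 1) : Module.End F W) v ≠ 0) : Unip F m s e := by
  let φ := (Module.finBasisOfFinrankEq F W h.2.1).equivFun
  have hφ : ∀ v, (Q.comp φ.symm.toLinearMap) (φ v) = Q v := fun v => by
    show Q (φ.symm (φ v)) = Q v
    rw [φ.symm_apply_apply]
  refine ⟨Q.comp φ.symm.toLinearMap, h.of_equiv φ.symm fun w => rfl, oGroupCongr φ hφ g, ?_, ?_, φ v, ?_⟩
  · rw [oGroupCongr_toEnd, ← map_pow, h1, map_one]
  · rw [oGroupCongr_toEnd, ← map_pow]
    exact fun e' => h2 ((φ.conjAlgEquiv F).injective (e'.trans (map_one _).symm))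
  · rw [oGroupCongr_toEnd, ← map_one (φ.conjAlgEquiv F), ← map_sub, ← map_pow]
    show φ (((toEnd Q g - 1) ^ (2 ^ (e + 1) - 1) : Module.End F W) (φ.symm (φ v))) ≠ 0
    rw [φ.symm_apply_apply]
    exact fun e' => hv (φ.map_eq_zero_iff.1 e')

omit [CharP F 2] in
theorem exists_form (s : ℤ) (hs : s = 1 ∨ s = -1) [CharP F 2] :
    ∃ Q : QuadraticForm F (Fin 2 → F), Sgn Q 1 s := by
  rcases hs with rfl | rfl
  · obtain ⟨Q, hQ, -⟩ := elem_plus (F := F) 1 le_rfl
    exact ⟨Q, hQ⟩
  · obtain ⟨Q, hQ, -⟩ := elem_minus (F := F) 1 le_rfl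
    exact ⟨Q, hQ⟩

theorem exists_refl_data {V : Type*} [AddCommGroup V] [Module F V] [FiniteDimensional F V]
    {Q : QuadraticForm F V} (hQ : (polarBilin Q).Nondegenerate) (hn : 1 ≤ finrank F V) :
    ∃ (d c : V), Q d ≠ 0 ∧ (refl Q d).1 c ≠ c ∧ (toEnd Q (refl Q d) - 1) ^ 2 = 0 ∧
      polar Q ((refl Q d).1 ((refl Q d).1 c - c)) c ≠ 0 := by
  obtain ⟨d, hd⟩ := exists_aniso hQ hn
  have hd0 : d ≠ 0 := fun e => hd (by rw [e, QuadraticMap.map_zero])
  obtain ⟨c, hc⟩ := CfsgLib.QuadStd.exists_polar_one hQ hd0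
  have hsub : (refl Q d).1 c - c = (-(Q d)⁻¹ * polar Q c d) • d := by rw [refl_apply]; abel
  have hne : -(Q d)⁻¹ * polar Q c d ≠ 0 := by
    rw [polar_comm, hc, mul_one]
    exact neg_ne_zero.2 (inv_ne_zero hd)
  refine ⟨d, c, hd, fun e => ?_, LinearMap.ext fun x => ?_, ?_⟩
  · rw [e, sub_self] at hsub
    exact smul_ne_zero hne hd0 hsub.symm
  · rw [pow_two, Module.End.mul_apply, LinearMap.sub_apply, LinearMap.sub_apply, toEnd_apply, toEnd_apply,
      Module.End.one_apply, Module.End.one_apply, map_sub]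
    have : (refl Q d).1 ((refl Q d).1 x) = x := reflMap_involutive d x
    rw [this, LinearMap.zero_apply, show x - (refl Q d).1 x - ((refl Q d).1 x - x) =
      (x - (refl Q d).1 x) + (x - (refl Q d).1 x) by abel, add_self_zero F]
  · rw [hsub, map_smul, refl_self hd, QuadraticMap.polar_smul_left, ← neg_one_smul F d,
      QuadraticMap.polar_smul_left, hc]
    exact mul_ne_zero hne (mul_ne_zero (neg_ne_zero.2 one_ne_zero) one_ne_zero)

theorem unip_four (s : ℤ) (hs : s = 1 ∨ s = -1) : Unip F 2 s 1 := by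
  obtain ⟨Q, hQ⟩ := exists_form (F := F) s hs
  obtain ⟨d, c, -, hne, hD2, hpol⟩ := exists_refl_data hQ.1 (by simp)
  have h4 := hypMap_nil Q (refl Q d) c hD2
  refine unip_of (sgn_hypSum hQ) (hypMap Q (refl Q d) c) ?_ ?_ (v := ((0, 1), 0)) ?_
  · rw [← sub_eq_zero, ← sub_one_pow]
    exact h4
  · intro e
    have h2 : (toEnd _ (hypMap Q (refl Q d) c) - 1) ^ 2 = 0 := by
      have := sub_one_pow (toEnd _ (hypMap Q (refl Q d) c)) 1
      rw [e, sub_self] at this
      simpa using this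
    have h := hypMap_dev_f Q (refl Q d) c 0
    rw [h2] at h
    have h' := congrArg Prod.snd h
    simp only [LinearMap.zero_apply, Prod.snd_zero, zero_add, pow_one, LinearMap.sub_apply, toEnd_apply,
      Module.End.one_apply] at h'
    exact hne (sub_eq_zero.1 h'.symm)
  · rw [show (2 : ℕ) ^ (1 + 1) - 1 = 1 + 2 from rfl, hypMap_dev_f]
    intro e
    have h' := congrArg (fun p : (F × F) × (Fin 2 → F) => p.1.1) e
    simp only [pow_one, LinearMap.sub_apply, toEnd_apply, Module.End.one_apply] at h'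
    exact hpol h'

/-- An element of order eight in dimension six. -/
theorem elem_eight (s : ℤ) (hs : s = 1 ∨ s = -1) : Elem F 3 s 8 := by
  obtain ⟨Q, hQ, u, h4, -, c, hc⟩ := unip_four (F := F) s hs
  have hD4 : (toEnd Q u - 1) ^ 4 = 0 := by
    have := sub_one_pow (toEnd Q u) 2
    rw [show (2 : ℕ) ^ (1 + 1) = 2 ^ 2 from rfl] at h4
    rw [h4, sub_self] at this
    simpa using this
  have h6 : (toEnd _ (hypMap Q u c) - 1) ^ 2 ^ 3 = 0 :=
    pow_eq_zero_of_le (show 4 + 2 ≤ 2 ^ 3 by norm_num) (hypMap_nil Q u c hD4)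
  refine elem_of (sgn_hypSum hQ) (hypMap Q u c) (dvd_of_eq ?_)
  symm
  rw [← orderOf_injective _ (toEnd_injective _), show (8 : ℕ) = 2 ^ (2 + 1) from rfl]
  refine orderOf_eq_two_pow ?_ fun e => ?_
  · rw [← sub_eq_zero, ← sub_one_pow]
    exact h6
  · have h := sub_one_pow (toEnd _ (hypMap Q u c)) 2
    rw [e, sub_self] at h
    have h' := hypMap_dev_f Q u c 2
    rw [show (2 : ℕ) + 2 = 2 ^ 2 from rfl, h] at h'
    exact hc (congrArg Prod.snd h').symm

end CfsgLib.SpecSpEight
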