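import Cfsg.Agent.SpecSpEight.Bound
import Cfsg.Agent.SpecSpEight.Unip
import Cfsg.Agent.Quad.Parity
import Cfsg.Agent.ParityRank.Basic

/-!
Models in dimension eight and minus sign for each of the twelve numbers, also with a translation.
-/

set_option autoImplicit false
set_option linter.style.haveILetI false

namespace CfsgLib.SpecSpEight

open Module QuadraticMap CfsgLib.Forms CfsgLib.Quad

universe u

variable {F : Type u} [Field F] {V W : Type*} [AddCommGroup V] [Module F V] [AddCommGroup W] [Module F W]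

/-- Pairs of isometries of an orthogonal sum. -/
def oProd (Q : QuadraticForm F V) (R : QuadraticForm F W) : oGroup Q × oGroup R →* oGroup (Q.prod R) where
  toFun p := ⟨p.1.1.prodCongr p.2.1, fun x => by
    show Q.prod R (p.1.1 x.1, p.2.1 x.2) = Q.prod R x
    rw [QuadraticMap.prod_apply, QuadraticMap.prod_apply, p.1.2, p.2.2]⟩
  map_one' := Subtype.ext (LinearEquiv.ext fun _ => rfl)
  map_mul' _ _ := Subtype.ext (LinearEquiv.ext fun _ => rfl)

theorem oProd_apply (Q : QuadraticForm F V) (R : QuadraticForm F W) (p : oGroup Q × oGroup R) (x : V × W) :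
    (oProd Q R p).1 x = (p.1.1 x.1, p.2.1 x.2) := rfl

theorem oProd_injective (Q : QuadraticForm F V) (R : QuadraticForm F W) : Function.Injective (oProd Q R) :=
  fun p r h => Prod.ext
    (Subtype.ext (LinearEquiv.ext fun v => congrArg Prod.fst (congrArg (fun g : oGroup (Q.prod R) => g.1 (v, 0)) h)))
    (Subtype.ext (LinearEquiv.ext fun w => congrArg Prod.snd (congrArg (fun g : oGroup (Q.prod R) => g.1 (0, w)) h)))

theorem gsum_oProd (Q : QuadraticForm F V) (R : QuadraticForm F W) (g : oGroup Q) (h : oGroup R) (j : ℕ)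
    (x : V × W) : gsum (toEnd _ (oProd Q R (g, h))) j x = (gsum (toEnd Q g) j x.1, gsum (toEnd R h) j x.2) := by
  induction j with
  | zero => simp [gsum]; rfl
  | succ j ih =>
    simp only [gsum, Finset.sum_range_succ, LinearMap.add_apply] at ih ⊢
    rw [ih, ← map_pow, ← map_pow, ← map_pow, ← map_pow, Prod.pow_mk]
    rfl

theorem gsum_congr {Q : QuadraticForm F W} {R : QuadraticForm F V} (e : W ≃ₗ[F] V) (he : ∀ v, R (e v) = Q v)
    (g : oGroup Q) (j : ℕ) (w : W) : gsum (toEnd R (oGroupCongr e he g)) j (e w) = e (gsum (toEnd Q g) j w) := by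
  simp only [gsum, LinearMap.sum_apply, map_sum, ← map_pow, toEnd_apply]
  refine Finset.sum_congr rfl fun i _ => ?_
  simp [oGroupCongr]

/-- `2^(e+1)` divides every exponent killing an affine pair. -/
def AffHas (Q : QuadraticForm F V) (T : ℕ) : Prop :=
  ∃ g ∈ commutator (oGroup Q), ∃ v, ∀ j : ℕ, g ^ j = 1 → gsum (toEnd Q g) j v = 0 → T ∣ j

/-- An element and a vector, for its square. -/
def SqVec (F : Type u) [Field F] (m : ℕ) (s : ℤ) (T : ℕ) : Prop :=
  ∃ Q : QuadraticForm F (Fin (2 * m) → F), Sgn Q m s ∧ ∃ (u : oGroup Q) (v : Fin (2 * m) → F),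
    ∀ j : ℕ, (u * u) ^ j = 1 → gsum (toEnd Q (u * u)) j v = 0 → T ∣ j

variable [Finite F] [CharP F 2]

theorem Elem.prod {m n : ℕ} {s t : ℤ} {N M : ℕ} (h : Elem F m s N) (h' : Elem F n t M) (hc : N.Coprime M) :
    Elem F (m + n) (s * t) (N * M) := by
  obtain ⟨Q, hQ, g, hg⟩ := h
  obtain ⟨R, hR, k, hk⟩ := h'
  refine elem_of (hQ.prod hR) (oProd Q R (g, k)) ?_
  rw [orderOf_injective _ (oProd_injective Q R), Prod.orderOf_mk]
  exact hc.mul_dvd_of_dvd_of_dvd (hg.trans (Nat.dvd_lcm_left _ _)) (hk.trans (Nat.dvd_lcm_right _ _))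

theorem elem_two (s : ℤ) (hs : s = 1 ∨ s = -1) : Elem F 1 s 2 := by
  obtain ⟨Q, hQ⟩ := exists_form (F := F) s hs
  obtain ⟨d, c, -, hne, -, -⟩ := exists_refl_data hQ.1 (by simp)
  refine elem_of hQ (refl Q d) (dvd_of_eq (orderOf_eq_prime (p := 2) ?_ fun e => hne ?_).symm)
  · rw [pow_two]; exact refl_mul_self d
  · rw [e]; rfl

theorem elem_four (s : ℤ) (hs : s = 1 ∨ s = -1) : Elem F 2 s 4 := by
  obtain ⟨Q, hQ, g, h1, h2, -⟩ := unip_four (F := F) s hs
  refine ⟨Q, hQ, g, dvd_of_eq ?_⟩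
  rw [← orderOf_injective _ (toEnd_injective Q), show (4 : ℕ) = 2 ^ (1 + 1) from rfl]
  exact (orderOf_eq_two_pow h1 h2).symm

theorem sqVec_two (s : ℤ) (hs : s = 1 ∨ s = -1) : SqVec F 1 s 2 := by
  obtain ⟨Q, hQ⟩ := exists_form (F := F) s hs
  obtain ⟨v, hv⟩ := exists_ne (0 : Fin 2 → F)
  refine ⟨Q, hQ, 1, v, fun j _ hj => crit (toEnd Q (1 * 1)) (e := 0) ?_ ?_ (j := j) ?_ hj⟩
  · simp
  · simpa using hv
  · simp

theorem sqVec_four (s : ℤ) (hs : s = 1 ∨ s = -1) : SqVec F 2 s 4 := by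
  obtain ⟨Q, hQ, g, h4, -, v, hv⟩ := unip_four (F := F) s hs
  have h4' : toEnd Q g ^ 4 = 1 := h4
  have hD : (toEnd Q (g * g) - 1) = (toEnd Q g - 1) ^ 2 := by
    have := sub_one_pow (toEnd Q g) 1
    rw [pow_one] at this
    rw [map_mul, ← pow_two (toEnd Q g), this]
  have hv2 : ((toEnd Q g - 1) ^ 2 : Module.End F (Fin (2 * 2) → F)) v ≠ 0 := fun e => hv (by
    rw [show (2 : ℕ) ^ (1 + 1) - 1 = 1 + 2 from rfl, pow_add, Module.End.mul_apply, e, map_zero])
  refine ⟨Q, hQ, g, v, fun j hj hs => crit (toEnd Q (g * g)) (e := 1) ?_ ?_ ?_ hs⟩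
  · rw [map_mul, ← pow_two (toEnd Q g), ← pow_mul, show 2 * 2 ^ 1 = 4 from rfl, h4']
  · rw [show (2 : ℕ) ^ 1 - 1 = 1 from rfl, pow_one, hD]
    exact hv2
  · rw [← map_pow, hj, map_one]

theorem dim_eight {Q : QuadraticForm F V} (hQ : Sgn Q 4 (-1)) : finrank F V ≠ 4 := by rw [hQ.2.1]; omega

theorem sq_mem_commutator [FiniteDimensional F V] {Q : QuadraticForm F V} (hQ : Sgn Q 4 (-1)) (g : oGroup Q) :
    g * g ∈ commutator (oGroup Q) := by
  have h := index_commutator_char_two hQ.1 (show 1 ≤ finrank F V by rw [hQ.2.1]; omega) (Or.inr (dim_eight hQ))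
  exact Subgroup.mul_self_mem_of_index_two h g

theorem refl_notMem_commutator [FiniteDimensional F V] {Q : QuadraticForm F V} (hQ : Sgn Q 4 (-1)) {d : V}
    (hd : Q d ≠ 0) : refl Q d ∉ commutator (oGroup Q) := by
  obtain ⟨ε, hε⟩ := exists_parity hQ.1 (Or.inr (dim_eight hQ))
  intro h
  rw [commutator_char_two hQ.1 (Or.inr (dim_eight hQ)) hε, MonoidHom.mem_ker, hε d hd] at h
  exact absurd h (by decide)

omit [CharP F 2] in
theorem AffHas.congr {Q : QuadraticForm F W} {R : QuadraticForm F V} (e : W ≃ₗ[F] V) (he : ∀ v, R (e v) = Q v)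
    {T : ℕ} (h : AffHas Q T) : AffHas R T := by
  obtain ⟨g, hg, v, hgv⟩ := h
  refine ⟨oGroupCongr e he g, ?_, e v, fun j h1 h2 => hgv j ?_ ?_⟩
  · rw [← commutator_map_equiv (oGroupCongr e he)]
    exact Subgroup.mem_map_of_mem _ hg
  · exact (oGroupCongr e he).injective (by rw [map_pow, map_one, h1])
  · rw [gsum_congr] at h2
    exact e.map_eq_zero_iff.1 h2

/-- An affine element for every form of minus sign in dimension eight. -/
def Aff (F : Type u) [Field F] (T : ℕ) : Prop :=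
  ∀ Q : QuadraticForm F (Fin 8 → F), Sgn Q 4 (-1) → AffHas Q T

theorem aff_of [FiniteDimensional F V] {Q : QuadraticForm F V} (hQ : Sgn Q 4 (-1)) {T : ℕ} (h : AffHas Q T) :
    Aff F T := fun R hR => by
  obtain ⟨e, he⟩ := minus_iso (m := 3) hQ hR
  exact h.congr e he

theorem aff_of_odd {T : ℕ} (hT : T.Coprime 2) (h : Elem F 4 (-1) T) : Aff F T := by
  obtain ⟨Q, hQ, g, hg⟩ := h
  refine aff_of hQ ⟨g * g, sq_mem_commutator hQ g, 0, fun j hj _ => hT.dvd_of_dvd_mul_left ?_⟩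
  rw [← pow_two, ← pow_mul] at hj
  exact hg.trans (orderOf_dvd_of_pow_eq_one hj)

theorem aff_of_sq {m n : ℕ} {s t : ℤ} {N T : ℕ} (h : Elem F m s N) (h' : SqVec F n t T) (hN : N.Coprime 2)
    (hc : N.Coprime T) (hmn : m + n = 4) (hst : s * t = -1) : Aff F (T * N) := by
  obtain ⟨Q, hQ, g, hg⟩ := h
  obtain ⟨R, hR, u, v, huv⟩ := h'
  have hP := hQ.prod hR
  rw [hmn, hst] at hP
  refine aff_of hP ⟨oProd Q R (g, u) * oProd Q R (g, u), sq_mem_commutator hP _, (0, v), fun j hj hs => ?_⟩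
  rw [← map_mul, Prod.mk_mul_mk] at hj hs
  rw [← map_pow, Prod.pow_mk, ← map_one (oProd Q R)] at hj
  obtain ⟨h1, h2⟩ := Prod.ext_iff.1 (oProd_injective Q R hj)
  rw [gsum_oProd] at hs
  refine hc.symm.mul_dvd_of_dvd_of_dvd (huv j h2 (Prod.ext_iff.1 hs).2) (hN.dvd_of_dvd_mul_left ?_)
  refine hg.trans (orderOf_dvd_of_pow_eq_one ?_)
  rw [pow_mul, pow_two]
  exact h1

theorem aff_eight {N : ℕ} {s t : ℤ} (h : Elem F 1 s N) (ht : t = 1 ∨ t = -1) (hc : N.Coprime 8)
    (hst : s * t = -1) : Aff F (8 * N) := by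
  obtain ⟨Q, hQ, g, hg⟩ := h
  obtain ⟨R, hR, u, h4, -, v, hv⟩ := unip_four (F := F) t ht
  obtain ⟨S, hS⟩ := exists_form (F := F) 1 (Or.inl rfl)
  obtain ⟨d, hd⟩ := exists_aniso hS.1 (by simp)
  have hP := hQ.prod (hR.prod hS)
  rw [show 1 + (2 + 1) = 4 from rfl, mul_one t, hst] at hP
  have hemb : oProd Q (R.prod S) (1, oProd R S (1, refl S d)) = refl (Q.prod (R.prod S)) (0, (0, d)) := by
    refine Subtype.ext (LinearEquiv.ext fun x => ?_)
    rw [oProd_apply, oProd_apply, refl_apply (Q := Q.prod (R.prod S)), prod_polar, prod_polar]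
    simp only [QuadraticMap.prod_apply, QuadraticMap.map_zero, polar_zero_right, zero_add]
    refine Prod.ext ?_ (Prod.ext ?_ ?_)
    · simp
    · simp
    · show (refl S d).1 x.2.2 = _
      rw [refl_apply]
      simp
  obtain ⟨y, hy⟩ : ∃ y : oGroup S, oProd Q (R.prod S) (g, oProd R S (u, y)) ∈
      commutator (oGroup (Q.prod (R.prod S))) := by
    by_cases h1 : oProd Q (R.prod S) (g, oProd R S (u, 1)) ∈ commutator (oGroup (Q.prod (R.prod S)))
    · exact ⟨1, h1⟩
    · refine ⟨refl S d, ?_⟩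
      have hi := index_commutator_char_two hP.1 (by rw [hP.2.1]; omega) (Or.inr (dim_eight hP))
      have hr := refl_notMem_commutator hP (d := (0, (0, d)))
        (by simpa [QuadraticMap.prod_apply] using hd)
      rw [← hemb] at hr
      have := (Subgroup.mul_mem_iff_of_index_two hi).2 (iff_of_false h1 hr)
      rwa [← map_mul, Prod.mk_mul_mk, ← map_mul, Prod.mk_mul_mk, mul_one g, mul_one u, one_mul (refl S d)] at this
  refine aff_of hP ⟨_, hy, (0, (v, 0)), fun j hj hs => ?_⟩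
  rw [← map_pow, Prod.pow_mk, ← map_one (oProd Q (R.prod S))] at hj
  obtain ⟨h1, h2⟩ := Prod.ext_iff.1 (oProd_injective _ _ hj)
  simp only [Prod.fst_one, Prod.snd_one] at h1 h2
  rw [← map_pow, Prod.pow_mk, ← map_one (oProd R S)] at h2
  have h3 : u ^ j = 1 := (Prod.ext_iff.1 (oProd_injective _ _ h2)).1
  rw [gsum_oProd, gsum_oProd] at hs
  refine hc.symm.mul_dvd_of_dvd_of_dvd ?_ (hg.trans (orderOf_dvd_of_pow_eq_one h1))
  exact crit (toEnd R u) (e := 2) h4 hv (by rw [← map_pow, h3, map_one])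
    (Prod.ext_iff.1 (Prod.ext_iff.1 hs).2).1

/-- The two readings of a number. -/
def Realised (F : Type u) [Field F] (N : ℕ) : Prop := Elem F 4 (-1) N ∧ Aff F N

theorem realised_odd {N : ℕ} (h : Elem F 4 (-1) N) (hN : N.Coprime 2) : Realised F N :=
  ⟨h, aff_of_odd hN h⟩

theorem realised_two {N : ℕ} {s : ℤ} (hs : s = 1 ∨ s = -1) (h : Elem F 3 s N) (hN : N.Coprime 2) :
    Realised F (2 * N) := by
  have ht : -s = 1 ∨ -s = -1 := by rcases hs with rfl | rfl <;> simp
  have hst : s * -s = -1 := by rcases hs with rfl | rfl <;> rfl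
  refine ⟨?_, aff_of_sq h (sqVec_two (F := F) (-s) ht) hN hN rfl hst⟩
  have := h.prod (elem_two (F := F) (-s) ht) hN
  rwa [hst, mul_comm N] at this

theorem realised_four {N : ℕ} {s : ℤ} (hs : s = 1 ∨ s = -1) (h : Elem F 2 s N) (hN : N.Coprime 2) :
    Realised F (4 * N) := by
  have ht : -s = 1 ∨ -s = -1 := by rcases hs with rfl | rfl <;> simp
  have hst : s * -s = -1 := by rcases hs with rfl | rfl <;> rfl
  have h4 : N.Coprime 4 := hN.pow_right 2
  refine ⟨?_, aff_of_sq h (sqVec_four (F := F) (-s) ht) hN h4 rfl hst⟩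
  have := h.prod (elem_four (F := F) (-s) ht) h4
  rwa [hst, mul_comm N] at this

theorem realised_eight {N : ℕ} {s : ℤ} (hs : s = 1 ∨ s = -1) (h : Elem F 1 s N) (hN : N.Coprime 2) :
    Realised F (8 * N) := by
  have ht : -s = 1 ∨ -s = -1 := by rcases hs with rfl | rfl <;> simp
  have hst : s * -s = -1 := by rcases hs with rfl | rfl <;> rfl
  have h8 : N.Coprime 8 := hN.pow_right 3
  refine ⟨?_, aff_eight h ht h8 hst⟩
  have := h.prod (elem_eight (F := F) (-s) ht) h8
  rwa [hst, mul_comm N] at this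

theorem coprime_of_dvd_two {N M A : ℕ} (h1 : N ∣ A) (h2 : M ∣ A + 2) (hM : M.Coprime 2) : N.Coprime M :=
  Nat.coprime_of_dvd' fun k _ hk1 hk2 =>
    hM ▸ Nat.dvd_gcd hk2 ((Nat.dvd_add_right (hk1.trans h1)).1 (hk2.trans h2))

theorem val_union (q : ℕ) {S T : Finset (Fin 6)} (h : Disjoint S T) : val q (S ∪ T) = val q S * val q T :=
  Finset.prod_union h

theorem realised : ∀ T ∈ twelve, Realised F (top (Nat.card F) T) := by
  classical
  set q := Nat.card F with hq
  have hq1 : 1 ≤ q := Nat.card_pos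
  have heven : Even q := even_card
  obtain ⟨P1, P2, P3⟩ : Elem F 1 1 (q ^ 1 - 1) ∧ Elem F 2 1 (q ^ 2 - 1) ∧ Elem F 3 1 (q ^ 3 - 1) :=
    ⟨elem_plus 1 le_rfl, elem_plus 2 (by norm_num), elem_plus 3 (by norm_num)⟩
  obtain ⟨M1, M2, M3, M4⟩ : Elem F 1 (-1) (q ^ 1 + 1) ∧ Elem F 2 (-1) (q ^ 2 + 1) ∧
      Elem F 3 (-1) (q ^ 3 + 1) ∧ Elem F 4 (-1) (q ^ 4 + 1) :=
    ⟨elem_minus 1 le_rfl, elem_minus 2 (by norm_num), elem_minus 3 (by norm_num), elem_minus 4 (by norm_num)⟩
  have vp : ∀ h, 1 ≤ h → h ≤ 4 → val q (piece h false) = q ^ h - 1 := fun h a b => (torN_eq_val hq1 h a b false).symm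
  have vm : ∀ h, 1 ≤ h → h ≤ 4 → val q (piece h true) = q ^ h + 1 := fun h a b => (torN_eq_val hq1 h a b true).symm
  have op : ∀ h, 1 ≤ h → Nat.Coprime (q ^ h - 1) 2 := fun h hh => by
    rw [Nat.coprime_two_right]
    exact Nat.Even.sub_odd (Nat.one_le_pow _ _ hq1) (heven.pow_of_ne_zero (by omega)) odd_one
  have om : ∀ h, 1 ≤ h → Nat.Coprime (q ^ h + 1) 2 := fun h hh => by
    rw [Nat.coprime_two_right]
    exact (heven.pow_of_ne_zero (by omega)).add_one
  have d1 : ∀ n, q ^ 1 - 1 ∣ q ^ n - 1 := fun n => by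
    rw [pow_one]; simpa using Nat.sub_dvd_pow_sub_pow q 1 n
  have d2 : q ^ 1 + 1 ∣ q ^ 2 - 1 := ⟨q - 1, by simpa using Nat.sq_sub_sq q 1⟩
  have d3 : q ^ 1 + 1 ∣ q ^ 3 + 1 := by simpa using Odd.nat_add_dvd_pow_add_pow q 1 (show Odd 3 by decide)
  have e2 : q ^ 2 - 1 + 2 = q ^ 2 + 1 := by have := Nat.one_le_pow 2 q hq1; omega
  have e3 : q ^ 3 - 1 + 2 = q ^ 3 + 1 := by have := Nat.one_le_pow 3 q hq1; omega
  have c22 : (q ^ 2 - 1).Coprime (q ^ 2 + 1) := coprime_of_dvd_two dvd_rfl (dvd_of_eq e2.symm) (om 2 (by norm_num))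
  have c31 : (q ^ 3 - 1).Coprime (q ^ 1 + 1) := coprime_of_dvd_two dvd_rfl (e3 ▸ d3) (om 1 le_rfl)
  have c13 : (q ^ 1 - 1).Coprime (q ^ 3 + 1) := coprime_of_dvd_two (d1 3) (dvd_of_eq e3.symm) (om 3 (by norm_num))
  have c12 : (q ^ 1 - 1).Coprime (q ^ 2 + 1) := coprime_of_dvd_two (d1 2) (dvd_of_eq e2.symm) (om 2 (by norm_num))
  have c12' : (q ^ 1 + 1).Coprime (q ^ 2 + 1) := coprime_of_dvd_two d2 (dvd_of_eq e2.symm) (om 2 (by norm_num))
  intro T hT
  simp only [twelve, List.mem_cons, List.not_mem_nil, or_false] at hT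
  rcases hT with rfl | rfl | rfl | rfl | rfl | rfl | rfl | rfl | rfl | rfl | rfl | rfl <;> unfold top
  · rw [show ({5} : Finset (Fin 6)) = piece 4 true from rfl, vm 4 (by norm_num) le_rfl, one_mul]
    exact realised_odd M4 (om 4 (by norm_num))
  · rw [show ({0, 1, 2} : Finset (Fin 6)) = piece 2 false ∪ piece 2 true by decide, val_union q (by decide),
      vp 2 (by norm_num) (by norm_num), vm 2 (by norm_num) (by norm_num), one_mul]
    exact realised_odd (P2.prod M2 c22) ((op 2 (by norm_num)).mul_left (om 2 (by norm_num)))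
  · rw [show ({0, 1, 3} : Finset (Fin 6)) = piece 3 false ∪ piece 1 true by decide, val_union q (by decide),
      vp 3 (by norm_num) (by norm_num), vm 1 le_rfl (by norm_num), one_mul]
    exact realised_odd (P3.prod M1 c31) ((op 3 (by norm_num)).mul_left (om 1 le_rfl))
  · rw [show ({0, 1, 4} : Finset (Fin 6)) = piece 1 false ∪ piece 3 true by decide, val_union q (by decide),
      vp 1 le_rfl (by norm_num), vm 3 (by norm_num) (by norm_num), one_mul]
    exact realised_odd (P1.prod M3 c13) ((op 1 le_rfl).mul_left (om 3 (by norm_num)))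
  · rw [show ({0, 3} : Finset (Fin 6)) = piece 3 false from rfl, vp 3 (by norm_num) (by norm_num)]
    exact realised_two (Or.inl rfl) P3 (op 3 (by norm_num))
  · rw [show ({1, 4} : Finset (Fin 6)) = piece 3 true from rfl, vm 3 (by norm_num) (by norm_num)]
    exact realised_two (Or.inr rfl) M3 (om 3 (by norm_num))
  · rw [show ({0, 2} : Finset (Fin 6)) = piece 1 false ∪ piece 2 true by decide, val_union q (by decide),
      vp 1 le_rfl (by norm_num), vm 2 (by norm_num) (by norm_num)]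
    exact realised_two (Or.inr rfl) (P1.prod M2 c12) ((op 1 le_rfl).mul_left (om 2 (by norm_num)))
  · rw [show ({1, 2} : Finset (Fin 6)) = piece 1 true ∪ piece 2 true by decide, val_union q (by decide),
      vm 1 le_rfl (by norm_num), vm 2 (by norm_num) (by norm_num)]
    exact realised_two (Or.inl rfl) (M1.prod M2 c12') ((om 1 le_rfl).mul_left (om 2 (by norm_num)))
  · rw [show ({0, 1} : Finset (Fin 6)) = piece 2 false from rfl, vp 2 (by norm_num) (by norm_num)]
    exact realised_four (Or.inl rfl) P2 (op 2 (by norm_num))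
  · rw [show ({2} : Finset (Fin 6)) = piece 2 true from rfl, vm 2 (by norm_num) (by norm_num)]
    exact realised_four (Or.inr rfl) M2 (om 2 (by norm_num))
  · rw [show ({0} : Finset (Fin 6)) = piece 1 false from rfl, vp 1 le_rfl (by norm_num)]
    exact realised_eight (Or.inl rfl) P1 (op 1 le_rfl)
  · rw [show ({1} : Finset (Fin 6)) = piece 1 true from rfl, vm 1 le_rfl (by norm_num)]
    exact realised_eight (Or.inr rfl) M1 (om 1 le_rfl)

end CfsgLib.SpecSpEight
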