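import Cfsg.Agent.SpecAbsorb.Sp
import Cfsg.Agent.Forms.OfBilin
import Cfsg.Agent.PrimeGraphBC.Iso

/-!
An isometry of an alternating form on a space of dimension `2n` over `F_q`: cyclic tori of sizes `h` and
unipotent parts with eigenvalues `1`, `-1` of sizes `a`, `b`, the sizes adding to `n`.
-/

set_option autoImplicit false
set_option linter.style.haveILetI false
set_option maxHeartbeats 400000

namespace CfsgLib.SpecSpEight

open Module CfsgLib.Forms CfsgLib.SpecAbsorb
open LinearMap (BilinForm)

universe u v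

variable {F : Type u} [Field F] [Fintype F] {p : ℕ} [hp : Fact p.Prime] [CharP F p]

/-- The order of a cyclic torus. -/
def torN (q h : ℕ) (minus : Bool) : ℕ := if minus then q ^ h + 1 else q ^ h - 1

/-- The sum of the sizes of the tori. -/
def torSum (P : List (ℕ × Bool)) : ℕ := (P.map Prod.fst).sum

omit [Fintype F] hp [CharP F p] in
theorem torSum_append (P Q : List (ℕ × Bool)) : torSum (P ++ Q) = torSum P + torSum Q := by
  simp [torSum, List.map_append, List.sum_append]

/-- The shape of an isometry. -/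
structure Shape {V : Type v} [AddCommGroup V] [Module F V] (p n : ℕ) (g : Module.End F V) where
  /-- tori -/
  P : List (ℕ × Bool)
  /-- unipotent part -/
  a : ℕ
  /-- negated unipotent part -/
  b : ℕ
  pos : ∀ x ∈ P, 1 ≤ x.1
  size : torSum P + a + b = n
  rel : ∀ M : ℕ, (∀ x ∈ P, torN (Fintype.card F) x.1 x.2 ∣ M) → p ^ Nat.clog p (2 * a) ∣ M →
    p ^ Nat.clog p (2 * b) ∣ M → (1 ≤ b → Even M) → g ^ M = 1
  neg : P = [] → a = 0 → g ^ p ^ Nat.clog p (2 * b) = -1

theorem torN_coprime {h : ℕ} (hh : 1 ≤ h) (minus : Bool) : (torN (Fintype.card F) h minus).Coprime p := by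
  rw [Nat.coprime_comm, hp.out.coprime_iff_not_dvd]
  intro hd
  have hq : p ∣ Fintype.card F ^ h := dvd_card_pow hh
  have h1 : 1 ≤ Fintype.card F ^ h := Nat.one_le_pow _ _ Fintype.card_pos
  cases minus
  · simp only [torN, if_false, Bool.false_eq_true] at hd
    have := Nat.dvd_sub hq hd
    rw [Nat.sub_sub_self h1] at this
    exact hp.out.not_dvd_one this
  · simp only [torN, if_true] at hd
    exact hp.out.not_dvd_one ((Nat.dvd_add_right hq).1 hd)

omit [Fintype F] in
theorem pow_eq_neg_one {V : Type v} [AddCommGroup V] [Module F V] [Nontrivial V] {g : Module.End F V} {L j : ℕ}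
    (hj : L ≤ p ^ j) (h : (g + 1) ^ L = 0) : g ^ p ^ j = -1 := by
  haveI : CharP (Module.End F V) p := charP_of_injective_algebraMap (FaithfulSMul.algebraMap_injective F _) p
  have h1 := pow_eq_zero_of_le hj h
  rw [add_pow_char_pow_of_commute p _ (Commute.one_right _), one_pow] at h1
  exact eq_neg_of_add_eq_zero_left h1

omit [Fintype F] in
theorem pow_dvd_eq_one {M : Type*} [Monoid M] {g : M} {N K : ℕ} (h : g ^ N = 1) (hd : N ∣ K) : g ^ K = 1 := by
  obtain ⟨c, rfl⟩ := hd
  rw [pow_mul, h, one_pow]

/-- A cyclic part. -/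
def shapeTorus {V : Type v} [AddCommGroup V] [Module F V] [Nontrivial V] {g : Module.End F V} {h L n : ℕ}
    (hh : 1 ≤ h) (hL : 1 ≤ L) (hn : h * L = n) (minus : Bool)
    (hg : (g ^ torN (Fintype.card F) h minus - 1) ^ L = 0) : Shape p n g where
  P := [(h, minus)]
  a := h * (L - 1)
  b := 0
  pos x hx := by rw [List.mem_singleton] at hx; subst hx; exact hh
  size := by
    obtain ⟨t, rfl⟩ := Nat.exists_eq_add_of_le hL
    simp [torSum, ← hn, Nat.mul_add]
  rel M hP ha _ _ := by
    refine pow_dvd_eq_one (dvd_of_nilpotent (Nat.le_pow_clog hp.out.one_lt L) hg) ?_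
    refine Nat.Coprime.mul_dvd_of_dvd_of_dvd ((torN_coprime hh minus).pow_right _)
      (hP _ (List.mem_singleton_self _)) (Nat.dvd_trans (pow_dvd_pow p ?_) ha)
    rcases Nat.lt_or_ge L 2 with h1 | h1
    · obtain rfl : L = 1 := by omega
      simp
    · refine Nat.clog_mono_right p ?_
      have : 1 * (L - 1) ≤ h * (L - 1) := Nat.mul_le_mul_right _ hh
      omega
  neg h := absurd h (by simp)

theorem two_cases_field {K : Type v} [Field K] [Finite K] [Algebra F K] (τ : K →+* K) (hττ : ∀ k, τ (τ k) = k)
    (hτF : ∀ c, τ (algebraMap F K c) = algebraMap F K c) {d : ℕ} (hK : Nat.card K = Nat.card F ^ d)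
    (hid : τ ≠ RingHom.id K) : ∃ h, d = 2 * h ∧ ∀ x, τ x = x ^ (Fintype.card F ^ h) := by
  obtain ⟨Q, hQ, hQτ⟩ := (involution_eq_pow τ hττ).resolve_left hid
  haveI : Module.Finite F K := Module.Finite.of_finite
  let e : K ≃ₐ[F] K := AlgEquiv.ofBijective
    (AlgHom.mk τ fun c => hτF c) ⟨τ.injective, fun z => ⟨τ z, hττ z⟩⟩
  have he2 : orderOf e = 2 := orderOf_eq_prime (AlgEquiv.ext fun z => hττ z)
    fun h => hid (RingHom.ext fun z => AlgEquiv.congr_fun h z)
  have hq2 : 2 ≤ Nat.card F := Finite.one_lt_card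
  have hd : d = finrank F K := Nat.pow_right_injective hq2 (hK.symm.trans Module.natCard_eq_pow_finrank)
  obtain ⟨h, rfl⟩ : 2 ∣ d := by
    rw [hd, ← IsGalois.card_aut_eq_finrank F K, ← he2]
    exact orderOf_dvd_natCard e
  refine ⟨h, rfl, fun x => ?_⟩
  have hQh : Q = Fintype.card F ^ h := by
    rw [hK, Nat.card_eq_fintype_card, mul_comm 2 h, pow_mul] at hQ
    exact Nat.pow_left_injective two_ne_zero hQ
  rw [← hQh, hQτ]

theorem normal_form : ∀ (n : ℕ) {V : Type v} [AddCommGroup V] [Module F V] [FiniteDimensional F V]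
    (B : BilinForm F V), B.IsAlt → B.Nondegenerate → finrank F V = 2 * n →
    ∀ g : Module.End F V, (∀ u w, B (g u) (g w) = B u w) → Nonempty (Shape p n g) := by
  intro n
  induction n using Nat.strong_induction_on with
  | _ n ih =>
    intro V _ _ _ B hA hB hV g hg
    rcases Nat.eq_zero_or_pos n with rfl | hn
    · haveI : Subsingleton V := (Module.finrank_zero_iff (R := F)).1 (by omega)
      exact ⟨⟨[], 0, 0, by simp, rfl, fun _ _ _ _ _ => LinearMap.ext fun _ => Subsingleton.elim _ _,
        fun _ _ => LinearMap.ext fun _ => Subsingleton.elim _ _⟩⟩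
    haveI : Nontrivial V := Module.nontrivial_of_finrank_pos (R := F) (by omega)
    rcases cases (Φ := ofAlt B hA) (ofAlt_nondeg hB hA) hg with ⟨e, he, he0, he1, hce, hee⟩ |
        ⟨K', _, _, _, d, L, τ, y, hL, hKc, hdL, hττ, hτF, hτy, -, hnil⟩ |
        ⟨K', _, _, _, d, L, y, δ, hL, hKc, hdL, hy0, -, -, hnil⟩
    · have hee' : ∀ u w, B (e u) w = B u (e w) := hee
      have hfix : ∀ w ∈ LinearMap.range e, e w = w := by
        rintro _ ⟨x, rfl⟩; exact LinearMap.congr_fun he x
      have hec : IsCompl (LinearMap.range e) (LinearMap.ker e) := by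
        refine ⟨Submodule.disjoint_def.2 fun w hw hk => ?_, codisjoint_iff.2 (eq_top_iff.2 fun w _ => ?_)⟩
        · rw [← hfix w hw]; exact hk
        · exact Submodule.mem_sup.2 ⟨e w, ⟨w, rfl⟩, w - e w,
            by rw [LinearMap.mem_ker, map_sub, hfix _ ⟨w, rfl⟩, sub_self], by abel⟩
      have horth : ∀ x ∈ LinearMap.range e, ∀ k ∈ LinearMap.ker e, B x k = 0 ∧ B k x = 0 := fun x hx k hk => by
        have h1 : B x k = 0 := by rw [← hfix x hx, hee', show e k = 0 from hk, map_zero]
        exact ⟨h1, by rw [← LinearMap.BilinForm.IsAlt.neg_eq hA, h1, neg_zero]⟩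
      have hnd1 : (B.restrict (LinearMap.range e)).Nondegenerate :=
        LinearMap.BilinForm.Nondegenerate.ofSeparatingLeft fun x hx => Subtype.ext (hB.1 _ fun w => by
          obtain ⟨a, ha, k, hk, rfl⟩ := Submodule.mem_sup.1 (show w ∈ LinearMap.range e ⊔ LinearMap.ker e by
            rw [hec.sup_eq_top]; trivial)
          rw [map_add, (horth x x.2 k hk).1, add_zero]
          exact hx ⟨a, ha⟩)
      have hnd2 : (B.restrict (LinearMap.ker e)).Nondegenerate :=
        LinearMap.BilinForm.Nondegenerate.ofSeparatingLeft fun x hx => Subtype.ext (hB.1 _ fun w => by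
          obtain ⟨a, ha, k, hk, rfl⟩ := Submodule.mem_sup.1 (show w ∈ LinearMap.range e ⊔ LinearMap.ker e by
            rw [hec.sup_eq_top]; trivial)
          rw [map_add, (horth a ha x x.2).2, zero_add]
          exact hx ⟨k, hk⟩)
      obtain ⟨n₁, hn₁⟩ := CfsgLib.PrimeGraphBC.even_finrank_of_alt (B := B.restrict (LinearMap.range e))
        (fun x => hA x) hnd1
      obtain ⟨n₂, hn₂⟩ := CfsgLib.PrimeGraphBC.even_finrank_of_alt (B := B.restrict (LinearMap.ker e))
        (fun x => hA x) hnd2
      have hsum := Submodule.finrank_add_eq_of_isCompl hec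
      have hm1 : ∀ w ∈ LinearMap.range e, g w ∈ LinearMap.range e := by
        rintro _ ⟨x, rfl⟩
        exact ⟨g x, (LinearMap.congr_fun hce.eq x).symm⟩
      have hm2 : ∀ w ∈ LinearMap.ker e, g w ∈ LinearMap.ker e := fun w hw => by
        rw [LinearMap.mem_ker] at hw ⊢
        have := LinearMap.congr_fun hce.eq w
        rw [Module.End.mul_apply, Module.End.mul_apply, hw, map_zero] at this
        exact this.symm
      have h1 : 1 ≤ n₁ := by
        by_contra hc
        refine he0 (LinearMap.range_eq_bot.1 (Submodule.finrank_eq_zero.1 (show finrank F (LinearMap.range e) = 0 by omega)))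
      have h2 : 1 ≤ n₂ := by
        by_contra hc
        have hk := Submodule.finrank_eq_zero.1 (show finrank F (LinearMap.ker e) = 0 by omega)
        refine he1 (LinearMap.ext fun w => ?_)
        rw [Module.End.one_apply]
        refine sub_eq_zero.1 ((Submodule.mem_bot F).1 (hk ▸ ?_))
        rw [LinearMap.mem_ker, map_sub, hfix _ ⟨w, rfl⟩, sub_self]
      obtain ⟨S₁⟩ := ih n₁ (by omega) (B.restrict (LinearMap.range e)) (fun x => hA x) hnd1 hn₁
        (g.restrict hm1) (fun u w => hg u w)
      obtain ⟨S₂⟩ := ih n₂ (by omega) (B.restrict (LinearMap.ker e)) (fun x => hA x) hnd2 hn₂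
        (g.restrict hm2) (fun u w => hg u w)
      have hglue : ∀ (M : ℕ) (s : F), (g.restrict hm1) ^ M = s • (1 : Module.End F _) →
          (g.restrict hm2) ^ M = s • (1 : Module.End F _) → g ^ M = s • (1 : Module.End F V) := fun M s e1 e2 => by
        refine LinearMap.ext fun w => ?_
        obtain ⟨a, ha, k, hk, rfl⟩ := Submodule.mem_sup.1 (show w ∈ LinearMap.range e ⊔ LinearMap.ker e by
          rw [hec.sup_eq_top]; trivial)
        have ea := congrArg Subtype.val (LinearMap.congr_fun e1 ⟨a, ha⟩)
        have ek := congrArg Subtype.val (LinearMap.congr_fun e2 ⟨k, hk⟩)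
        rw [Module.End.pow_restrict] at ea ek
        rw [map_add, map_add]
        exact congrArg₂ (· + ·) ea ek
      refine ⟨⟨S₁.P ++ S₂.P, S₁.a + S₂.a, S₁.b + S₂.b, ?_, ?_, fun M hP ha hb hev => ?_, fun hP ha => ?_⟩⟩
      · intro x hx
        rcases List.mem_append.1 hx with h | h
        exacts [S₁.pos x h, S₂.pos x h]
      · rw [torSum_append]
        have := S₁.size; have := S₂.size; omega
      · have mono : ∀ {x y : ℕ}, x ≤ y → p ^ Nat.clog p (2 * y) ∣ M → p ^ Nat.clog p (2 * x) ∣ M := fun hxy h =>
          (pow_dvd_pow p (Nat.clog_mono_right p (Nat.mul_le_mul_left 2 hxy))).trans h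
        rw [← one_smul F (1 : Module.End F V)]
        refine hglue M 1 ?_ ?_ <;> rw [one_smul]
        · exact S₁.rel M (fun x hx => hP x (List.mem_append_left _ hx)) (mono (Nat.le_add_right _ _) ha)
            (mono (Nat.le_add_right _ _) hb) (fun h => hev (by omega))
        · exact S₂.rel M (fun x hx => hP x (List.mem_append_right _ hx)) (mono (Nat.le_add_left _ _) ha)
            (mono (Nat.le_add_left _ _) hb) (fun h => hev (by omega))
      · obtain ⟨hP1, hP2⟩ := List.append_eq_nil_iff.1 hP
        have hup : ∀ {W : Type v} [AddCommGroup W] [Module F W] (f : Module.End F W) (x : ℕ),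
            x ≤ S₁.b + S₂.b → f ^ p ^ Nat.clog p (2 * x) = -1 →
            f ^ p ^ Nat.clog p (2 * (S₁.b + S₂.b)) = -1 := fun {W} _ _ f x hx h => by
          obtain ⟨c, hc⟩ := Nat.exists_eq_add_of_le (Nat.clog_mono_right p (Nat.mul_le_mul_left 2 hx))
          rw [hc, pow_add, pow_mul, h]
          rcases subsingleton_or_nontrivial W with _ | _
          · exact LinearMap.ext fun _ => Subsingleton.elim _ _
          · haveI : CharP (Module.End F W) p :=
              charP_of_injective_algebraMap (FaithfulSMul.algebraMap_injective F _) p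
            exact neg_one_pow_char_pow (Module.End F W) p c
        rw [← neg_one_smul F (1 : Module.End F V)]
        refine hglue _ (-1) ?_ ?_
        · exact (hup _ _ (Nat.le_add_right _ _) (S₁.neg hP1 (by omega))).trans (neg_one_smul F _).symm
        · exact (hup _ _ (Nat.le_add_left _ _) (S₂.neg hP2 (by omega))).trans (neg_one_smul F _).symm
    · rw [hV] at hdL
      have hd : 0 < d := by rcases Nat.eq_zero_or_pos d with rfl | h' <;> [simp at hdL; exact h'] ; omega
      by_cases hid : τ = RingHom.id K'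
      · rw [hid, RingHom.id_apply] at hτy
        have hLn : L ≤ p ^ Nat.clog p (2 * n) :=
          ((Nat.le_mul_of_pos_left L hd).trans hdL.le).trans (Nat.le_pow_clog hp.out.one_lt _)
        rcases mul_self_eq_one_iff.1 hτy with hy | hy
        · have h1 := hnil 1 1 (by rw [pow_one, map_one, hy])
          rw [map_one] at h1
          have h3 := dvd_of_nilpotent (p := p) hLn h1
          exact ⟨⟨[], n, 0, by simp, by simp [torSum], fun M _ ha _ _ => pow_dvd_eq_one h3 (by rwa [one_mul]),
            fun _ h => absurd h (by omega)⟩⟩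
        · have h1 := hnil 1 (-1) (by rw [pow_one, map_neg, map_one, hy])
          rw [map_neg, map_one, pow_one, sub_neg_eq_add] at h1
          have h3 := pow_eq_neg_one (p := p) hLn h1
          refine ⟨⟨[], 0, n, by simp, by simp [torSum], fun M _ _ hb hev => ?_, fun _ _ => h3⟩⟩
          haveI : CharP (Module.End F V) p :=
            charP_of_injective_algebraMap (FaithfulSMul.algebraMap_injective F _) p
          obtain ⟨t, rfl⟩ := hb
          rw [pow_mul, h3, ← neg_one_pow_char_pow (Module.End F V) p (Nat.clog p (2 * n)), ← pow_mul,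
            (hev hn).neg_one_pow]
      · obtain ⟨h, rfl, hτh⟩ := two_cases_field τ hττ (fun c => hτF c) hKc hid
        rw [hτh, ← pow_succ] at hτy
        have h1 := hnil _ 1 (by rw [hτy, map_one])
        rw [map_one] at h1
        exact ⟨shapeTorus (show 1 ≤ h by omega) hL (by rw [mul_assoc] at hdL; omega) true
          (by simpa [torN] using h1)⟩
    · rw [hV] at hdL
      have hd : 0 < d := by rcases Nat.eq_zero_or_pos d with rfl | h' <;> [simp at hdL; exact h'] ; omega
      haveI := Fintype.ofFinite K'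
      have hyq : y ^ (Fintype.card F ^ d - 1) = 1 := by
        rw [← Nat.card_eq_fintype_card (α := F), ← hKc, Nat.card_eq_fintype_card]
        exact FiniteField.pow_card_sub_one_eq_one y hy0
      have h1 := hnil _ 1 (by rw [hyq, map_one]) (by simp [ofAlt])
      rw [map_one] at h1
      exact ⟨shapeTorus (show 1 ≤ d by omega) hL (by omega) false (by simpa [torN] using h1)⟩

end CfsgLib.SpecSpEight
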