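import Cfsg.Agent.Quad.Concrete
import Cfsg.Agent.QuadStd.Split
import Cfsg.Agent.ParityRank.Split

/-!
The sign of a quadratic form in even dimension over a finite field of characteristic two: it multiplies over
orthogonal sums and determines the form.
-/

set_option autoImplicit false
set_option linter.style.haveILetI false

namespace CfsgLib.SpecSpEight

open Module QuadraticMap CfsgLib.Forms CfsgLib.Quad

variable {F : Type*} [Field F] {V : Type*} [AddCommGroup V] [Module F V]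
  {W : Type*} [AddCommGroup W] [Module F W]

/-- The number of zeros of a form. -/
noncomputable def zc (Q : QuadraticForm F V) : ℕ := Nat.card {v : V // Q v = 0}

/-- Dimension `2 m` and sign `s`. -/
def Sgn (Q : QuadraticForm F V) (m : ℕ) (s : ℤ) : Prop :=
  (polarBilin Q).Nondegenerate ∧ finrank F V = 2 * m ∧
    (Nat.card F : ℤ) * zc Q - (Nat.card F : ℤ) ^ (2 * m) = s * ((Nat.card F : ℤ) - 1) * (Nat.card F : ℤ) ^ m

theorem zc_congr {Q : QuadraticForm F V} {R : QuadraticForm F W} (e : V ≃ₗ[F] W) (he : ∀ v, R (e v) = Q v) :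
    zc Q = zc R :=
  Nat.card_congr (e.toEquiv.subtypeEquiv fun v => by show _ ↔ R (e v) = 0; rw [he])

theorem Sgn.of_equiv {Q : QuadraticForm F V} {R : QuadraticForm F W} {m : ℕ} {s : ℤ} (h : Sgn R m s)
    (e : V ≃ₗ[F] W) (he : ∀ v, R (e v) = Q v) : Sgn Q m s :=
  ⟨nondeg_of_equiv e he h.1, e.finrank_eq.trans h.2.1, by rw [zc_congr e he]; exact h.2.2⟩

variable [Finite F]

theorem sgn_plusQ (m : ℕ) : Sgn (plusQ (F := F) m) m 1 :=
  ⟨plusQ_nondeg m, by simp [two_mul], by
    show (Nat.card F : ℤ) * Nat.card {v // plusQ (F := F) m v = 0} - _ = _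
    rw [zeros_plus rfl m]; ring⟩

theorem sgn_minusQ {a b : F} (hab : ∀ z₁ z₂ : F, z₁ ^ 2 + a * z₁ * z₂ + b * z₂ ^ 2 = 0 → z₁ = 0 ∧ z₂ = 0)
    (m : ℕ) : Sgn (minusQ m a b) (m + 1) (-1) :=
  ⟨minusQ_nondeg hab m, by simp [two_mul]; omega, by
    show (Nat.card F : ℤ) * Nat.card {v // minusQ m a b v = 0} - _ = _
    rw [zeros_minus rfl hab m]; ring⟩

variable [CharP F 2]

omit [Finite F] in
theorem prod_polar (Q : QuadraticForm F V) (R : QuadraticForm F W) (x y : V × W) :
    polar (Q.prod R) x y = polar Q x.1 y.1 + polar R x.2 y.2 := by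
  simp only [polar, QuadraticMap.prod_apply, Prod.fst_add, Prod.snd_add]; ring

omit [Finite F] [CharP F 2] in
theorem prod_nondeg {Q : QuadraticForm F V} {R : QuadraticForm F W} (hQ : (polarBilin Q).Nondegenerate)
    (hR : (polarBilin R).Nondegenerate) : (polarBilin (Q.prod R)).Nondegenerate := by
  have h1 : ∀ p, (∀ r, polar (Q.prod R) p r = 0) → p = 0 := fun p hp => by
    have hpol : ∀ x y : V × W, polar (Q.prod R) x y = polar Q x.1 y.1 + polar R x.2 y.2 := fun x y => by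
      simp only [polar, QuadraticMap.prod_apply, Prod.fst_add, Prod.snd_add]; ring
    refine Prod.ext (hQ.1 _ fun v => ?_) (hR.1 _ fun w => ?_)
    · simpa [hpol, polar_zero_right] using hp (v, 0)
    · simpa [hpol, polar_zero_right] using hp (0, w)
  exact ⟨fun p hp => h1 p hp, fun p hp => h1 p fun r => by rw [polar_comm]; exact hp r⟩

theorem Sgn.prod [FiniteDimensional F V] [FiniteDimensional F W] {Q : QuadraticForm F V}
    {R : QuadraticForm F W} {m n : ℕ} {s t : ℤ} (hQ : Sgn Q m s) (hR : Sgn R n t) :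
    Sgn (Q.prod R) (m + n) (s * t) := by
  classical
  refine ⟨prod_nondeg hQ.1 hR.1, by rw [Module.finrank_prod, hQ.2.1, hR.2.1]; ring, ?_⟩
  haveI : Finite V := Module.finite_of_finite F
  haveI : Finite W := Module.finite_of_finite F
  haveI := Fintype.ofFinite V
  haveI := Fintype.ofFinite F
  set N : F → ℕ := fun c => Nat.card {w : W // R w = c} with hN
  have hN0 : N 0 = zc R := rfl
  have hN1 : ∀ c, c ≠ 0 → N c = N 1 := fun c hc => by
    obtain ⟨r, hr⟩ := CfsgLib.Quad.isSquare_char_two c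
    have hr0 : r ≠ 0 := fun e => hc (by rw [hr, e, mul_zero])
    refine (Nat.card_congr ((LinearEquiv.smulOfUnit (Units.mk0 r hr0) : W ≃ₗ[F] W).toEquiv.subtypeEquiv
      fun w => ?_)).symm
    show R w = 1 ↔ R (r • w) = c
    rw [quad_smul, ← hr]
    exact ⟨fun h => by rw [h, mul_one], fun h => mul_left_cancel₀ hc (h.trans (mul_one c).symm)⟩
  have hW : (Nat.card W : ℤ) = zc R + ((Nat.card F : ℤ) - 1) * N 1 := by
    rw [← Nat.card_congr (Equiv.sigmaFiberEquiv R), Nat.card_sigma,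
      ← Finset.sum_erase_add _ _ (Finset.mem_univ (0 : F))]
    push_cast
    rw [Finset.sum_congr rfl (fun c hc => congrArg Nat.cast (hN1 c (Finset.ne_of_mem_erase hc))),
      Finset.sum_const, nsmul_eq_mul, Finset.card_erase_of_mem (Finset.mem_univ _), Finset.card_univ,
      Nat.cast_sub Fintype.card_pos, ← Nat.card_eq_fintype_card]
    rw [show (Nat.card {a // R a = 0}) = zc R from rfl]
    push_cast; ring
  have hV : (zc (Q.prod R) : ℤ) = zc Q * zc R + ((Nat.card V : ℤ) - zc Q) * N 1 := by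
    let e : {p : V × W // Q.prod R p = 0} ≃ Σ v : V, {w : W // R w = Q v} :=
      { toFun := fun p => ⟨p.1.1, p.1.2, (CharTwo.add_eq_zero.1 p.2).symm⟩
        invFun := fun p => ⟨(p.1, p.2.1), CharTwo.add_eq_zero.2 p.2.2.symm⟩
        left_inv := fun p => rfl
        right_inv := fun p => rfl }
    rw [zc, Nat.card_congr e, Nat.card_sigma,
      ← Finset.sum_filter_add_sum_filter_not Finset.univ (fun v => Q v = 0)]
    have hc : (Finset.univ.filter fun v => Q v = 0).card = zc Q := by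
      rw [zc, Nat.card_eq_fintype_card, Fintype.card_subtype]
    have hc' : ((Finset.univ.filter fun v => ¬ Q v = 0).card : ℤ) = (Nat.card V : ℤ) - zc Q := by
      have := Finset.card_filter_add_card_filter_not (s := (Finset.univ : Finset V)) (fun v => Q v = 0)
      rw [hc, Finset.card_univ, ← Nat.card_eq_fintype_card] at this
      omega
    rw [Finset.sum_congr rfl (fun v hv => show N (Q v) = zc R by rw [(Finset.mem_filter.1 hv).2]; rfl),
      Finset.sum_congr (s₁ := Finset.univ.filter fun v => ¬ Q v = 0) rfl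
        (fun v hv => hN1 _ (Finset.mem_filter.1 hv).2),
      Finset.sum_const, Finset.sum_const, hc]
    push_cast
    rw [smul_eq_mul, smul_eq_mul]
    push_cast
    rw [hc']
  have hcV : (Nat.card V : ℤ) = (Nat.card F : ℤ) ^ (2 * m) := by
    rw [Module.natCard_eq_pow_finrank (K := F), hQ.2.1]; push_cast; ring
  have hcW : (Nat.card W : ℤ) = (Nat.card F : ℤ) ^ (2 * n) := by
    rw [Module.natCard_eq_pow_finrank (K := F), hR.2.1]; push_cast; ring
  have hq : (Nat.card F : ℤ) - 1 ≠ 0 := by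
    have : 1 < Nat.card F := Finite.one_lt_card
    omega
  refine mul_left_cancel₀ hq ?_
  have e1 := hQ.2.2
  have e2 := hR.2.2
  have key : ((Nat.card F : ℤ) - 1) * ((Nat.card F : ℤ) * zc (Q.prod R) -
      (Nat.card V : ℤ) * Nat.card W) =
      ((Nat.card F : ℤ) * zc Q - Nat.card V) * ((Nat.card F : ℤ) * zc R - Nat.card W) := by
    rw [hV, hW]; ring
  rw [hcV, hcW, e1, e2] at key
  rw [show (Nat.card F : ℤ) ^ (2 * (m + n)) = (Nat.card F : ℤ) ^ (2 * m) * (Nat.card F : ℤ) ^ (2 * n) by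
    rw [← pow_add]; ring_nf, key]
  ring

omit [CharP F 2] in
/-- Every non-degenerate form in even dimension has a sign. -/
theorem exists_sgn [FiniteDimensional F V] {Q : QuadraticForm F V} (hQ : (polarBilin Q).Nondegenerate) {m : ℕ}
    (hV : finrank F V = 2 * m) : Sgn Q m 1 ∨ Sgn Q m (-1) := by
  rcases CfsgLib.QuadStd.classify_even hQ hV with ⟨φ, h⟩ | ⟨ζ, φ, hm, hζ, h⟩
  · exact Or.inl ((sgn_plusQ m).of_equiv φ fun v => (h v).symm)
  · obtain ⟨k, rfl⟩ := Nat.exists_eq_add_of_le' hm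
    exact Or.inr ((sgn_minusQ (CfsgLib.QuadStd.plane_aniso hζ) k).of_equiv φ fun v => (h v).symm)

omit [CharP F 2] in
theorem sgn_unique [FiniteDimensional F V] {Q : QuadraticForm F V} {m : ℕ} {s t : ℤ} (h : Sgn Q m s)
    (h' : Sgn Q m t) : s = t := by
  have h1 := h.2.2.symm.trans h'.2.2
  have : 1 < Nat.card F := Finite.one_lt_card
  have hne : ((Nat.card F : ℤ) - 1) * (Nat.card F : ℤ) ^ m ≠ 0 :=
    mul_ne_zero (by omega) (pow_ne_zero _ (by omega))
  exact mul_right_cancel₀ hne (by linear_combination h1)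

omit [CharP F 2] in
theorem minus_of_sgn [FiniteDimensional F V] {Q : QuadraticForm F V} {m : ℕ} (h : Sgn Q (m + 1) (-1)) :
    ∃ (ζ : F) (φ : V ≃ₗ[F] ((Fin m ⊕ Fin m) ⊕ Fin 2 → F)),
      (∀ t : F, t ^ 2 + t + ζ ≠ 0) ∧ ∀ v, Q v = minusQ m 1 ζ (φ v) := by
  rcases CfsgLib.QuadStd.classify_even h.1 h.2.1 with ⟨φ, hφ⟩ | ⟨ζ, φ, -, hζ, hφ⟩
  · exact absurd (sgn_unique h ((sgn_plusQ _).of_equiv φ fun v => (hφ v).symm)) (by norm_num)
  · exact ⟨ζ, φ, hζ, hφ⟩

/-- All forms of minus sign in one dimension are isometric. -/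
theorem minus_iso [FiniteDimensional F V] [FiniteDimensional F W] {Q : QuadraticForm F V}
    {R : QuadraticForm F W} {m : ℕ} (hQ : Sgn Q (m + 1) (-1)) (hR : Sgn R (m + 1) (-1)) :
    ∃ e : V ≃ₗ[F] W, ∀ v, R (e v) = Q v := by
  obtain ⟨ζ, φ, hζ, hφ⟩ := minus_of_sgn hQ
  obtain ⟨η, ψ, hη, hψ⟩ := minus_of_sgn hR
  let P : F →+ F := AddMonoidHom.mk' (fun t => t ^ 2 + t) fun x y => by rw [CharTwo.add_sq]; ring
  have hker : Nat.card P.ker = 2 := by
    refine Nat.card_eq_two_iff.2 ⟨⟨0, by simp⟩, ⟨1, ?_⟩, fun e => zero_ne_one (congrArg Subtype.val e),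
      Set.eq_univ_iff_forall.2 fun ⟨t, ht⟩ => ?_⟩
    · simp [P, CharTwo.add_self_eq_zero]
    · have h0 : t ^ 2 + t = 0 := ht
      rcases mul_eq_zero.1 (show t * (t + 1) = 0 by linear_combination h0) with e | e
      · exact Or.inl (Subtype.ext e)
      · exact Or.inr (Subtype.ext (CharTwo.add_eq_zero.1 e))
  have hidx : P.range.index = 2 := by
    have h1 := P.range.card_mul_index
    have h2 := P.ker.card_mul_index
    rw [AddSubgroup.index_ker, hker] at h2
    rw [← h2, mul_comm 2] at h1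
    exact Nat.eq_of_mul_eq_mul_left Nat.card_pos h1
  have hout : ∀ {z : F}, (∀ t : F, t ^ 2 + t + z ≠ 0) → z ∉ P.range := by
    rintro z hz ⟨t, ht⟩
    refine hz t ?_
    rw [show t ^ 2 + t = z from ht, CharTwo.add_self_eq_zero]
  obtain ⟨t, ht⟩ : ζ + η ∈ P.range :=
    (AddSubgroup.add_mem_iff_of_index_two hidx).2 (iff_of_false (hout hζ) (hout hη))
  have ht' : t ^ 2 + t = ζ + η := ht
  let σ : ((Fin m ⊕ Fin m) ⊕ Fin 2 → F) →ₗ[F] ((Fin m ⊕ Fin m) ⊕ Fin 2 → F) :=
    { toFun := fun v => v + (t * v (.inr 1)) • Pi.single (.inr 0) 1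
      map_add' := fun u v => by simp only [Pi.add_apply, mul_add, add_smul]; abel
      map_smul' := fun c v => by
        simp only [Pi.smul_apply, smul_eq_mul, RingHom.id_apply, smul_add, smul_smul]; congr 2; ring }
  have hσσ : ∀ v, σ (σ v) = v := fun v => by
    simp only [σ, LinearMap.coe_mk, AddHom.coe_mk, Pi.add_apply, Pi.smul_apply,
      Pi.single_eq_of_ne (show (Sum.inr 1 : (Fin m ⊕ Fin m) ⊕ Fin 2) ≠ Sum.inr 0 by simp), smul_zero,
      add_zero, add_assoc, ← add_smul, CharTwo.add_self_eq_zero, zero_smul]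
  let S : ((Fin m ⊕ Fin m) ⊕ Fin 2 → F) ≃ₗ[F] ((Fin m ⊕ Fin m) ⊕ Fin 2 → F) :=
    LinearEquiv.ofInvolutive σ hσσ
  refine ⟨φ.trans (S.trans ψ.symm), fun v => ?_⟩
  rw [hψ, hφ, LinearEquiv.trans_apply, LinearEquiv.trans_apply, LinearEquiv.apply_symm_apply]
  show minusQ m 1 η (σ (φ v)) = _
  set u := φ v
  rw [minusQ_coe, minusQ_coe]
  simp only [σ, Cfsg.quadFormMinus, LinearMap.coe_mk, AddHom.coe_mk, Pi.add_apply, Pi.smul_apply,
    smul_eq_mul, Pi.single_apply]
  simp only [reduceCtorEq, if_false, if_true, mul_zero, add_zero, mul_one, Sum.inr.injEq,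
    show (1 : Fin 2) ≠ 0 by decide]
  linear_combination (u (.inr 1)) ^ 2 * ht' +
    (t * u (.inr 0) * u (.inr 1) + η * u (.inr 1) ^ 2) * (CharTwo.two_eq_zero (R := F))

end CfsgLib.SpecSpEight
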