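import Cfsg.Agent.SpecSpEight.Sign
import Cfsg.Agent.Quad.SmallIso
import Cfsg.Agent.AutFrattini.Basic
import Mathlib.FieldTheory.Finite.Extension
import Mathlib.FieldTheory.Finite.Trace
import Mathlib.RingTheory.Trace.Basic

/-!
Cyclic tori of orders `q^h - 1` (plus sign) and `q^h + 1` (minus sign).
-/

set_option autoImplicit false
set_option linter.style.haveILetI false

namespace CfsgLib.SpecSpEight

open Module QuadraticMap CfsgLib.Forms CfsgLib.Quad

universe u

variable {F : Type u} [Field F] [Finite F]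

/-- An element of order a multiple of `N` in some orthogonal group of dimension `2 m` and sign `s`. -/
def Elem (F : Type u) [Field F] (m : ℕ) (s : ℤ) (N : ℕ) : Prop :=
  ∃ Q : QuadraticForm F (Fin (2 * m) → F), Sgn Q m s ∧ ∃ g : oGroup Q, N ∣ orderOf g

omit [Finite F] in
theorem elem_of {V : Type*} [AddCommGroup V] [Module F V] [FiniteDimensional F V] {Q : QuadraticForm F V}
    {m : ℕ} {s : ℤ} (h : Sgn Q m s) {N : ℕ} (g : oGroup Q) (hg : N ∣ orderOf g) : Elem F m s N := by
  let e := (Module.finBasisOfFinrankEq F V h.2.1).equivFun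
  refine ⟨Q.comp e.symm.toLinearMap, h.of_equiv e.symm fun w => rfl, ?_⟩
  refine ⟨oGroupCongr (Q' := Q.comp e.symm.toLinearMap) e (fun v => ?_) g, ?_⟩
  · show Q (e.symm (e v)) = Q v
    rw [e.symm_apply_apply]
  · rwa [MulEquiv.orderOf_eq]

theorem dvd_zeros {V : Type*} [AddCommGroup V] [Module F V] [FiniteDimensional F V] {Q : QuadraticForm F V}
    (t : oGroup Q) (hfree : ∀ i : ℕ, t ^ i ≠ 1 → ∀ v, (t ^ i).1 v = v → v = 0) : orderOf t ∣ zc Q - 1 := by
  classical
  haveI : Finite V := Module.finite_of_finite F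
  haveI := finite_oGroup Q
  haveI := Fintype.ofFinite V
  letI : MulAction (Subgroup.zpowers t) {v : V // Q v = 0 ∧ v ≠ 0} :=
    { smul := fun a v => ⟨a.1.1 v.1, by rw [a.1.2, v.2.1], fun e => v.2.2 (a.1.1.map_eq_zero_iff.1 e)⟩
      one_smul := fun v => rfl
      mul_smul := fun a b v => rfl }
  have h := CfsgLib.AutFrattini.card_dvd_of_free (A := Subgroup.zpowers t)
    (Ω := {v : V // Q v = 0 ∧ v ≠ 0}) fun a v hv => by
      obtain ⟨i, hi⟩ : ∃ i : ℕ, t ^ i = a.1 :=
        Submonoid.mem_powers_iff _ _ |>.1 (mem_powers_iff_mem_zpowers.2 a.2)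
      by_contra hne
      exact v.2.2 (hfree i (fun e => hne (Subtype.ext (hi.symm.trans e))) v.1
        (by rw [hi]; exact congrArg Subtype.val hv))
  rw [Nat.card_zpowers] at h
  refine h.trans (dvd_of_eq ?_)
  have h1 : (Finset.univ.filter fun v : V => Q v = 0 ∧ v ≠ 0) = (Finset.univ.filter fun v => Q v = 0).erase 0 := by
    ext v; simp [and_comm]
  rw [zc, Nat.card_eq_fintype_card, Nat.card_eq_fintype_card, Fintype.card_subtype, Fintype.card_subtype, h1,
    Finset.card_erase_of_mem (by simp)]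

theorem not_dvd_plus_zeros {q h : ℕ} (hq : 2 ≤ q) (he : Even q) (hh : 1 ≤ h) {Z : ℕ}
    (hZ : (q : ℤ) * Z - (q : ℤ) ^ (2 * h) = 1 * ((q : ℤ) - 1) * (q : ℤ) ^ h) : ¬ q ^ h + 1 ∣ Z - 1 := by
  obtain ⟨k, rfl⟩ := Nat.exists_eq_add_of_le' hh
  have hZ' : (Z : ℤ) = (q : ℤ) ^ (2 * k + 1) + (q : ℤ) ^ (k + 1) - (q : ℤ) ^ k := by
    refine mul_left_cancel₀ (show (q : ℤ) ≠ 0 by omega) ?_
    linear_combination hZ
  intro hd
  have h1 : ((q ^ (k + 1) + 1 : ℕ) : ℤ) ∣ (Z : ℤ) - 1 := by
    rcases Nat.eq_zero_or_pos Z with rfl | hp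
    · exfalso
      have e1 : (1 : ℤ) ≤ (q : ℤ) ^ (2 * k + 1) := one_le_pow₀ (by omega)
      have e2 : (q : ℤ) ^ k ≤ (q : ℤ) ^ (k + 1) := pow_le_pow_right₀ (by omega) (by omega)
      push_cast at hZ'
      omega
    · have := Int.natCast_dvd_natCast.2 hd
      rwa [Nat.cast_sub hp, Nat.cast_one] at this
  have h2 : ((q ^ (k + 1) + 1 : ℕ) : ℤ) ∣ ((2 * (q ^ k + 1) : ℕ) : ℤ) := by
    obtain ⟨c, hc⟩ := h1
    refine ⟨(q : ℤ) ^ k + 1 - c, ?_⟩
    rw [hZ'] at hc
    push_cast at hc ⊢
    linear_combination -hc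
  have hodd : Nat.Coprime (q ^ (k + 1) + 1) 2 := by
    rw [Nat.coprime_two_right]
    exact (he.pow_of_ne_zero (by omega)).add_one
  have h3 := Nat.le_of_dvd (by positivity) (hodd.dvd_of_dvd_mul_left (Int.natCast_dvd_natCast.1 h2))
  have : q ^ k < q ^ (k + 1) := Nat.pow_lt_pow_right hq (by omega)
  omega

variable [CharP F 2]

theorem even_card : Even (Nat.card F) := by
  haveI := Fintype.ofFinite F
  obtain ⟨n, -, hn⟩ := FiniteField.card F 2
  rw [Nat.card_eq_fintype_card, hn]
  exact even_two.pow_of_ne_zero n.ne_zero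

/-- The minus torus. -/
theorem elem_minus (h : ℕ) (hh : 1 ≤ h) : Elem F h (-1) (Nat.card F ^ h + 1) := by
  classical
  haveI : Fact (Nat.Prime 2) := ⟨Nat.prime_two⟩
  haveI := Fintype.ofFinite F
  haveI : NeZero (2 * h) := ⟨by omega⟩
  let L := FiniteField.Extension F 2 (2 * h)
  haveI := Fintype.ofFinite L
  haveI : CharP L 2 := charP_of_injective_algebraMap (FaithfulSMul.algebraMap_injective F L) 2
  have hL : finrank F L = 2 * h := FiniteField.finrank_extension F 2 (2 * h)
  have hLc : Fintype.card L = Nat.card F ^ (2 * h) := by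
    rw [← Nat.card_eq_fintype_card]; exact FiniteField.natCard_extension F 2 (2 * h)
  set q := Nat.card F with hq
  have hq2 : 2 ≤ q := Finite.one_lt_card
  let σ : L ≃ₐ[F] L := FiniteField.Extension.frob F 2 (2 * h) ^ h
  have hσ : ∀ x : L, σ x = x ^ (q ^ h) := fun x => FiniteField.Extension.frob_iterate_apply F 2 (2 * h) h
  have hσσ : ∀ x : L, σ (σ x) = x := fun x => by
    rw [hσ, hσ, ← pow_mul, ← pow_add, ← two_mul, ← hLc, FiniteField.pow_card]
  obtain ⟨g, hg⟩ := IsCyclic.exists_generator (α := Lˣ)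
  have hgo : orderOf g = (q ^ h + 1) * (q ^ h - 1) := by
    rw [orderOf_eq_card_of_forall_mem_zpowers hg, Nat.card_units, Nat.card_eq_fintype_card, hLc,
      ← Nat.sq_sub_sq, ← pow_mul, mul_comm h 2, one_pow]
  have hpos : 0 < q ^ h - 1 := by
    have : q ^ 1 ≤ q ^ h := Nat.pow_le_pow_right (by omega) hh
    rw [pow_one] at this
    omega
  let ζ := g ^ (q ^ h - 1)
  have hζ : orderOf ζ = q ^ h + 1 := by
    rw [orderOf_pow' _ hpos.ne', hgo, Nat.gcd_mul_left_left, Nat.mul_div_cancel _ hpos]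
  obtain ⟨δ, hδ⟩ : ∃ δ : L, δ + σ δ = 1 := by
    have hne : σ (g : L) ≠ g := fun e => by
      rw [hσ] at e
      have h1 : g ^ (q ^ h - 1) = 1 := by
        refine Units.ext (mul_left_cancel₀ g.ne_zero ?_)
        rw [Units.val_pow_eq_pow_val, ← pow_succ', Nat.sub_add_cancel (by omega), e, Units.val_one, mul_one]
      have h2 := Nat.le_of_dvd hpos (hgo ▸ orderOf_dvd_of_pow_eq_one h1)
      have h3 : 2 * (q ^ h - 1) ≤ (q ^ h + 1) * (q ^ h - 1) := Nat.mul_le_mul_right _ (by omega)
      omega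
    have hc : (g : L) + σ g ≠ 0 := fun e => hne (CharTwo.add_eq_zero.1 e).symm
    refine ⟨(g : L) / (g + σ g), ?_⟩
    rw [map_div₀, map_add, hσσ, add_comm (σ g) (g : L), ← add_div, div_self hc]
  let Q : QuadraticForm F L := LinearMap.BilinMap.toQuadraticMap
    (((LinearMap.mul F L).compl₁₂ (LinearMap.mulLeft F δ) σ.toLinearMap).compr₂ (Algebra.trace F L))
  have hQ : ∀ x : L, Q x = Algebra.trace F L (δ * x * σ x) := fun x => rfl
  have hpolar : ∀ x y : L, polar Q x y = Algebra.trace F L (x * σ y) := fun x y => by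
    have e : Algebra.trace F L (δ * y * σ x) = Algebra.trace F L (σ δ * x * σ y) := by
      rw [← Algebra.trace_eq_of_algEquiv σ (δ * y * σ x), map_mul σ, map_mul σ, hσσ, mul_right_comm]
    rw [polar, hQ, hQ, hQ, map_add σ, show δ * (x + y) * (σ x + σ y) =
      δ * x * σ x + δ * y * σ y + (δ * x * σ y + δ * y * σ x) by ring, map_add, map_add, map_add, e,
      ← map_add _ (δ * x * σ y), show δ * x * σ y + σ δ * x * σ y = (δ + σ δ) * (x * σ y) by ring, hδ,
      one_mul]
    ring
  have hnd : (polarBilin Q).Nondegenerate := by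
    have h1 : ∀ x : L, (∀ y, polar Q x y = 0) → x = 0 := fun x hx =>
      (traceForm_nondegenerate F L).1 x fun y => by
        rw [Algebra.traceForm_apply, ← hσσ y, ← hpolar]
        exact hx _
    exact ⟨fun x hx => h1 x hx, fun x hx => h1 x fun y => by rw [polar_comm]; exact hx y⟩
  let T : L ≃ₗ[F] L := LinearEquiv.ofLinearMap (LinearMap.mulLeft F (ζ : L)) (LinearMap.mulLeft F ((ζ⁻¹ : Lˣ) : L))
    (LinearMap.ext fun x => by simp [← mul_assoc]) (LinearMap.ext fun x => by simp [← mul_assoc])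
  have hT : T ∈ oGroup Q := fun x => by
    show Q ((ζ : L) * x) = Q x
    rw [hQ, hQ, map_mul σ, hσ (ζ : L), show δ * ((ζ : L) * x) * ((ζ : L) ^ q ^ h * σ x) =
      (ζ : L) ^ (q ^ h + 1) * (δ * x * σ x) by ring, ← Units.val_pow_eq_pow_val,
      orderOf_dvd_iff_pow_eq_one.1 (dvd_of_eq hζ), Units.val_one, one_mul]
  let t : oGroup Q := ⟨T, hT⟩
  have hpow : ∀ (i : ℕ) (x : L), (t ^ i).1 x = (ζ : L) ^ i * x := by
    intro i
    induction i with
    | zero => intro x; simp
    | succ i ih =>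
      intro x
      rw [pow_succ, pow_succ, Subgroup.coe_mul, LinearEquiv.mul_apply, ih, mul_assoc]
      rfl
  have hti : ∀ i : ℕ, t ^ i = 1 ↔ ζ ^ i = 1 := fun i => by
    refine ⟨fun e => Units.ext ?_, fun e => Subtype.ext (LinearEquiv.ext fun x => ?_)⟩
    · have := hpow i 1
      rw [e, mul_one] at this
      rw [Units.val_pow_eq_pow_val, ← this]
      rfl
    · rw [hpow, ← Units.val_pow_eq_pow_val, e, Units.val_one, one_mul]
      rfl
  have hto : orderOf t = q ^ h + 1 := hζ ▸ orderOf_eq_orderOf_iff.2 hti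
  have hfree : ∀ i : ℕ, t ^ i ≠ 1 → ∀ v, (t ^ i).1 v = v → v = 0 := fun i hi v hv => by
    by_contra hv0
    rw [hpow] at hv
    refine hi ((hti i).2 (Units.ext ?_))
    rw [Units.val_pow_eq_pow_val, Units.val_one]
    exact mul_right_cancel₀ hv0 (hv.trans (one_mul v).symm)
  rcases exists_sgn hnd hL with hs | hs
  · have hd := dvd_zeros t hfree
    rw [hto] at hd
    exact absurd hd (not_dvd_plus_zeros hq2 even_card hh hs.2.2)
  · exact elem_of hs t hto.symm.dvd

/-- The plus torus. -/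
theorem elem_plus (h : ℕ) (hh : 1 ≤ h) : Elem F h 1 (Nat.card F ^ h - 1) := by
  classical
  haveI : Fact (Nat.Prime 2) := ⟨Nat.prime_two⟩
  haveI := Fintype.ofFinite F
  haveI : NeZero h := ⟨by omega⟩
  let K := FiniteField.Extension F 2 h
  haveI := Fintype.ofFinite K
  have hK : finrank F K = h := FiniteField.finrank_extension F 2 h
  obtain ⟨g, hg⟩ := IsCyclic.exists_generator (α := Kˣ)
  have hgo : orderOf g = Nat.card F ^ h - 1 := by
    rw [orderOf_eq_card_of_forall_mem_zpowers hg, Nat.card_units, FiniteField.natCard_extension]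
  let Q : QuadraticForm F (K × K) := LinearMap.BilinMap.toQuadraticMap
    (((LinearMap.mul F K).compl₁₂ (LinearMap.fst F K K) (LinearMap.snd F K K)).compr₂ (Algebra.trace F K))
  have hQ : ∀ p : K × K, Q p = Algebra.trace F K (p.1 * p.2) := fun p => rfl
  have hpolar : ∀ x y : K × K, polar Q x y = Algebra.trace F K (x.1 * y.2) + Algebra.trace F K (y.1 * x.2) :=
    fun x y => by
      rw [polar, hQ, hQ, hQ, Prod.fst_add, Prod.snd_add, show (x.1 + y.1) * (x.2 + y.2) =
        x.1 * x.2 + y.1 * y.2 + (x.1 * y.2 + y.1 * x.2) by ring, map_add, map_add, map_add]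
      ring
  have hnd : (polarBilin Q).Nondegenerate := by
    have h1 : ∀ x : K × K, (∀ y, polar Q x y = 0) → x = 0 := fun x hx => Prod.ext
      ((traceForm_nondegenerate F K).1 _ fun y => by
        have := hx (0, y); rw [hpolar] at this; simpa [Algebra.traceForm_apply] using this)
      ((traceForm_nondegenerate F K).1 _ fun y => by
        have := hx (y, 0); rw [hpolar] at this
        simpa [Algebra.traceForm_apply, mul_comm y] using this)
    exact ⟨fun x hx => h1 x hx, fun x hx => h1 x fun y => by rw [polar_comm]; exact hx y⟩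
  let T : (K × K) ≃ₗ[F] (K × K) :=
    LinearEquiv.ofLinearMap ((LinearMap.mulLeft F (g : K)).prodMap (LinearMap.mulLeft F ((g⁻¹ : Kˣ) : K)))
      ((LinearMap.mulLeft F ((g⁻¹ : Kˣ) : K)).prodMap (LinearMap.mulLeft F (g : K)))
      (LinearMap.ext fun x => by ext <;> simp [← mul_assoc])
      (LinearMap.ext fun x => by ext <;> simp [← mul_assoc])
  have hT : T ∈ oGroup Q := fun x => by
    show Q ((g : K) * x.1, ((g⁻¹ : Kˣ) : K) * x.2) = Q x
    rw [hQ, hQ]
    show Algebra.trace F K ((g : K) * x.1 * (((g⁻¹ : Kˣ) : K) * x.2)) = _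
    rw [mul_mul_mul_comm, ← Units.val_mul, mul_inv_cancel, Units.val_one, one_mul]
  let t : oGroup Q := ⟨T, hT⟩
  have hpow : ∀ (i : ℕ) (x : K × K), ((t ^ i).1 x).1 = (g : K) ^ i * x.1 := by
    intro i
    induction i with
    | zero => intro x; simp
    | succ i ih =>
      intro x
      rw [pow_succ, pow_succ, Subgroup.coe_mul, LinearEquiv.mul_apply, ih, mul_assoc]
      rfl
  refine elem_of (m := h) ?_ t ?_
  · have h2 : finrank F (K × K) = 2 * h := by rw [Module.finrank_prod, hK]; ring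
    rcases exists_sgn hnd h2 with hs | hs
    · exact hs
    · exfalso
      obtain ⟨k, rfl⟩ := Nat.exists_eq_add_of_le' hh
      obtain ⟨ζ, φ, hζ, hφ⟩ := minus_of_sgn hs
      have h3 := CfsgLib.ParityRank.minus_no_half (CfsgLib.QuadStd.plane_aniso hζ)
        (LinearMap.range (φ.toLinearMap.comp (LinearMap.inl F K K))) (by
          rintro _ ⟨x, rfl⟩
          show minusQ k 1 ζ (φ (x, 0)) = 0
          rw [← hφ, hQ, mul_zero, map_zero])
      have hinj : Function.Injective (φ.toLinearMap.comp (LinearMap.inl F K K)) := fun x y e =>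
        congrArg Prod.fst (φ.injective e)
      rw [LinearMap.finrank_range_of_inj hinj, hK] at h3
      omega
  · rw [← hgo]
    refine orderOf_dvd_of_pow_eq_one (Units.ext ?_)
    have := hpow (orderOf t) (1, 0)
    rw [pow_orderOf_eq_one, mul_one] at this
    rw [Units.val_pow_eq_pow_val, ← this]
    rfl

end CfsgLib.SpecSpEight
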